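import Cfsg.Agent.Lib.SpCommutator.DatumComm

/-!
# Polynomials in an isometry; block data with trivial block; cyclic subspaces (helper52)
-/

set_option autoImplicit false

namespace Cfsg.Agent.Lib.SpCommutator

open Module Polynomial

universe u

variable {F : Type u} [Field F] {V : Type u} [AddCommGroup V] [Module F V] [FiniteDimensional F V]

namespace Ctx

variable (C : Ctx F V)

/-- `g` as an endomorphism. -/
def gl : Module.End F V := (C.g : V →ₗ[F] V)

/-- `g⁻¹` as an endomorphism. -/
def gi : Module.End F V := (C.g.symm : V →ₗ[F] V)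

/-- `g + g⁻¹`. -/
def SS : Module.End F V := C.gl + C.gi

omit [FiniteDimensional F V]

lemma gl_apply (x : V) : C.gl x = C.g x := rfl

lemma gi_apply (x : V) : C.gi x = C.g.symm x := rfl

lemma gl_gi : C.gl * C.gi = 1 := LinearMap.ext fun x => C.g.apply_symm_apply x

lemma gi_gl : C.gi * C.gl = 1 := LinearMap.ext fun x => C.g.symm_apply_apply x

lemma comm_gl_gi : Commute C.gl C.gi := C.gl_gi.trans C.gi_gl.symm

lemma adj_gl (x y : V) : C.B (C.gl x) y = C.B x (C.gi y) := by
  rw [gl_apply, gi_apply]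
  conv_rhs => rw [← C.isom, C.g.apply_symm_apply]

lemma adj_gi (x y : V) : C.B (C.gi x) y = C.B x (C.gl y) := by
  rw [gl_apply, gi_apply, ← C.isom, C.g.apply_symm_apply]

lemma adj_aeval (p : F[X]) (x y : V) :
    C.B (aeval C.gl p x) y = C.B x (aeval C.gi p y) := by
  induction p using Polynomial.induction_on generalizing x y with
  | C a => simp
  | add p q hp hq => simp [hp, hq]
  | monomial n a h =>
    rw [pow_succ, ← mul_assoc, map_mul, aeval_X]
    show C.B (aeval C.gl (Polynomial.C a * X ^ n) (C.gl x)) y = _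
    rw [h, C.adj_gl, map_mul (aeval C.gi) (Polynomial.C a * X ^ n) X, aeval_X]
    congr 1
    have : Commute C.gi (aeval C.gi (Polynomial.C a * X ^ n)) := by
      have := (Commute.all (X : F[X]) (Polynomial.C a * X ^ n)).map (aeval C.gi)
      rwa [aeval_X] at this
    exact LinearMap.congr_fun this y

lemma adj_aeval' (p : F[X]) (x y : V) :
    C.B (aeval C.gi p x) y = C.B x (aeval C.gl p y) := by
  rw [C.symm, ← C.adj_aeval, ← C.symm]

lemma adj_SS (x y : V) : C.B (C.SS x) y = C.B x (C.SS y) := by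
  simp only [SS, LinearMap.add_apply, map_add, C.adj_gl, C.adj_gi]
  ring

lemma adj_SS_pow (n : ℕ) (x y : V) : C.B ((C.SS ^ n) x) y = C.B x ((C.SS ^ n) y) := by
  induction n generalizing x y with
  | zero => rfl
  | succ n ih =>
    rw [pow_succ, Module.End.mul_apply, ih, C.adj_SS, ← Module.End.mul_apply,
      ← pow_succ', pow_succ]

lemma B_SS_pow (n : ℕ) (x : V) : C.B x ((C.SS ^ n) x) = 0 := by
  obtain ⟨k, rfl | rfl⟩ := n.even_or_odd'
  · rw [two_mul, pow_add, Module.End.mul_apply, ← C.adj_SS_pow, C.alt]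
  · rw [show 2 * k + 1 = k + (1 + k) by ring, pow_add, pow_add, pow_one, Module.End.mul_apply,
      ← C.adj_SS_pow, Module.End.mul_apply]
    generalize (C.SS ^ k) x = z
    rw [SS, LinearMap.add_apply, map_add, ← C.adj_gl, C.symm (C.gl z)]
    exact add_neg_cancel _

lemma tsub_eq (x y : V) : C.B (C.gl x - x) (C.gl y - y) = 2 * C.B x y - C.B (C.SS x) y := by
  simp only [map_sub, LinearMap.sub_apply, SS, LinearMap.add_apply, map_add, C.adj_gl x y,
    C.adj_gi x y]
  rw [show C.B (C.gl x) (C.gl y) = C.B x y from C.isom x y]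
  ring

lemma tv_one {ι : Type} [Fintype ι] [DecidableEq ι] (C : Ctx F V) (e : ι → V) (j : ι) :
    C.tv e (1 : Matrix ι ι F) j = C.gl (e j) - e j := by
  simp [tv, gl, Matrix.one_apply]

/-- Datum with trivial block. -/
lemma datum_one {U W : Submodule F V} (hW : ∀ x ∈ W, ∀ y ∈ W, C.B x y = 0)
    (hS : ∀ x ∈ W, C.SS x ∈ W) (hWU : W ≤ U)
    (hgy : ∀ y ∈ W, C.gl y ∈ W → C.gl y = y)
    {ι : Type} [Fintype ι] [DecidableEq ι] {e : ι → V} (he : LinearIndependent F e)
    (hspan : Submodule.span F (Set.range e) = W)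
    (hcard : 2 * Fintype.card ι = finrank F U) :
    C.Datum U e (1 : Matrix ι ι F) := by
  have hmem : ∀ i, e i ∈ W := fun i => hspan ▸ Submodule.subset_span ⟨i, rfl⟩
  refine ⟨fun i => hWU (hmem i), he, fun i j => hW _ (hmem i) _ (hmem j), hcard,
    fun i j => ?_, fun c hc => ?_⟩
  · rw [tv_one, tv_one, C.tsub_eq, hW _ (hmem i) _ (hmem j),
      hW _ (hS _ (hmem i)) _ (hmem j), mul_zero, sub_zero]
  · have h : ∑ j, c j • C.tv e (1 : Matrix ι ι F) j =
        C.gl (∑ j, c j • e j) - ∑ j, c j • e j := by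
      simp only [tv_one, smul_sub, Finset.sum_sub_distrib, map_sum, map_smul]
    rw [h] at hc ⊢
    have hy : ∑ j, c j • e j ∈ W := W.sum_mem fun i _ => W.smul_mem _ (hmem i)
    rw [hspan] at hc
    have := W.add_mem hc hy
    rw [sub_add_cancel] at this
    rw [hgy _ hy this, sub_self]

/-- The `g`-cyclic subspace of `v`. -/
noncomputable def cyc (v : V) : Submodule F V :=
  LinearMap.range ((LinearMap.applyₗ v).comp (aeval C.gl).toLinearMap)

lemma mem_cyc {v x : V} : x ∈ C.cyc v ↔ ∃ p : F[X], aeval C.gl p v = x := Iff.rfl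

lemma self_mem_cyc (v : V) : v ∈ C.cyc v := ⟨1, by simp⟩

lemma stable_cyc (v : V) : C.Stable (C.cyc v) := by
  rintro _ ⟨p, rfl⟩
  exact ⟨X * p, by simp [gl]⟩

lemma Stable.aeval_mem {C : Ctx F V} {M : Submodule F V} (hM : C.Stable M) (p : F[X]) {x : V}
    (hx : x ∈ M) : aeval C.gl p x ∈ M := by
  induction p using Polynomial.induction_on generalizing x with
  | C a => simpa using M.smul_mem a hx
  | add p q hp hq => rw [map_add, LinearMap.add_apply]; exact M.add_mem (hp hx) (hq hx)
  | monomial n a h =>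
    rw [pow_succ, ← mul_assoc, map_mul, aeval_X]
    exact h (hM x hx)

lemma cyc_le {M : Submodule F V} (hM : C.Stable M) {v : V} (hv : v ∈ M) : C.cyc v ≤ M := by
  rintro _ ⟨p, rfl⟩
  exact hM.aeval_mem p hv

lemma Stable.gl_mem {C : Ctx F V} {M : Submodule F V} (hM : C.Stable M) {x : V} (hx : x ∈ M) :
    C.gl x ∈ M := hM x hx

lemma Stable.gi_mem [FiniteDimensional F V] {C : Ctx F V} {M : Submodule F V} (hM : C.Stable M)
    {x : V} (hx : x ∈ M) : C.gi x ∈ M := hM.inv_mem hx

lemma Stable.SS_mem [FiniteDimensional F V] {C : Ctx F V} {M : Submodule F V} (hM : C.Stable M)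
    {x : V} (hx : x ∈ M) : C.SS x ∈ M := M.add_mem (hM.gl_mem hx) (hM.gi_mem hx)

lemma Stable.aeval_gi_mem [FiniteDimensional F V] {C : Ctx F V} {M : Submodule F V}
    (hM : C.Stable M) (p : F[X]) {x : V} (hx : x ∈ M) : aeval C.gi p x ∈ M := by
  induction p using Polynomial.induction_on generalizing x with
  | C a => simpa using M.smul_mem a hx
  | add p q hp hq => rw [map_add, LinearMap.add_apply]; exact M.add_mem (hp hx) (hq hx)
  | monomial n a h =>
    rw [pow_succ, ← mul_assoc, map_mul, aeval_X]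
    exact h (hM.gi_mem hx)

/-- A nondegenerate cyclic subspace has a datum with trivial block. -/
lemma datum_cyc [FiniteDimensional F V] (v : V) (hU : C.Nondeg (C.cyc v)) :
    ∃ (n : ℕ) (e : Fin n → V), C.Datum (C.cyc v) e (1 : Matrix (Fin n) (Fin n) F) := by
  set U := C.cyc v with hUdef
  set W := Submodule.span F (Set.range fun i : ℕ => (C.SS ^ i) v) with hWdef
  have hsU := C.stable_cyc v
  have hWU : W ≤ U := by
    refine Submodule.span_le.2 ?_
    rintro _ ⟨i, rfl⟩
    induction i with
    | zero => exact C.self_mem_cyc v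
    | succ i ih => show (C.SS ^ (i + 1)) v ∈ U; rw [pow_succ']; exact hsU.SS_mem ih
  have hW : ∀ x ∈ W, ∀ y ∈ W, C.B x y = 0 := by
    intro x hx y hy
    induction hx using Submodule.span_induction with
    | mem z hz =>
      obtain ⟨i, rfl⟩ := hz
      induction hy using Submodule.span_induction with
      | mem z hz =>
        obtain ⟨j, rfl⟩ := hz
        rw [C.adj_SS_pow, ← Module.End.mul_apply, ← pow_add, C.B_SS_pow]
      | zero => simp
      | add a b _ _ ha hb => simp [ha, hb]
      | smul c a _ ha => simp [ha]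
    | zero => simp
    | add a b _ _ ha hb => simp [ha, hb]
    | smul c a _ ha => simp [ha]
  have hS : ∀ x ∈ W, C.SS x ∈ W := by
    intro x hx
    have h := Submodule.mem_map_of_mem (f := (C.SS : V →ₗ[F] V)) hx
    rw [hWdef, Submodule.map_span, ← Set.range_comp] at h
    refine Submodule.span_mono ?_ h
    rintro _ ⟨i, rfl⟩
    exact ⟨i + 1, by simp [pow_succ']⟩
  have hsup : U ≤ W ⊔ W.map C.gl := by
    refine C.cyc_le ?_ (Submodule.mem_sup_left (Submodule.subset_span ⟨0, rfl⟩))
    intro x hx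
    obtain ⟨a, ha, b, hb, rfl⟩ := Submodule.mem_sup.1 hx
    obtain ⟨b, hb', rfl⟩ := Submodule.mem_map.1 hb
    have hgg : C.gl (C.gl b) = C.gl (C.SS b) - b := by
      simp [SS, gl_apply, gi_apply]
    rw [map_add]
    show C.gl a + C.gl (C.gl b) ∈ _
    rw [hgg]
    exact add_mem (Submodule.mem_sup_right (Submodule.mem_map_of_mem ha))
      (sub_mem (Submodule.mem_sup_right (Submodule.mem_map_of_mem (hS b hb')))
        (Submodule.mem_sup_left hb'))
  have h0 : ∀ y ∈ W, C.gl y ∈ W → y = 0 := by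
    intro y hy hgy
    refine hU y (hWU hy) fun z hz => ?_
    obtain ⟨a, ha, b, hb, rfl⟩ := Submodule.mem_sup.1 (hsup hz)
    obtain ⟨b, hb', rfl⟩ := Submodule.mem_map.1 hb
    have : C.gi y ∈ W := by
      have := W.sub_mem (hS y hy) hgy
      simpa [SS] using this
    rw [map_add, hW y hy a ha, ← C.adj_gi, hW _ this b hb', add_zero]
  have hfr : finrank F U = 2 * finrank F W := by
    have hle : W ⊔ W.map C.gl ≤ U :=
      sup_le hWU (Submodule.map_le_iff_le_comap.2 fun x hx => hsU.gl_mem (hWU hx))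
    have hbot : W ⊓ W.map C.gl = ⊥ := by
      rw [Submodule.eq_bot_iff]
      rintro _ ⟨hx, y, hy, rfl⟩
      rw [h0 y hy hx, map_zero]
    have h := Submodule.finrank_sup_add_finrank_inf_eq W (W.map C.gl)
    rw [hbot, finrank_bot, le_antisymm hle hsup,
      (Submodule.equivMapOfInjective C.gl C.g.injective W).finrank_eq.symm] at h
    omega
  refine ⟨finrank F W, fun i => (finBasis F W i : V), C.datum_one hW hS hWU
    (fun y hy hgy => by rw [h0 y hy hgy, map_zero]) ?_ ?_ ?_⟩
  · exact (finBasis F W).linearIndependent.map' W.subtype W.ker_subtype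
  · rw [show (Set.range fun i => (finBasis F W i : V)) = W.subtype '' Set.range (finBasis F W) by
      rw [← Set.range_comp]; rfl, ← Submodule.map_span, (finBasis F W).span_eq,
      Submodule.map_subtype_top]
  · rw [Fintype.card_fin, hfr]

end Ctx

end Cfsg.Agent.Lib.SpCommutator
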