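import Cfsg.Agent.Lib.SpCommutator.Space

/-!
# A block datum with a good block gives a commutator (helper52)
-/

set_option autoImplicit false

namespace Cfsg.Agent.Lib.SpCommutator

open Module

universe u

variable {F : Type u} [Field F] {V : Type u} [AddCommGroup V] [Module F V] [FiniteDimensional F V]

namespace Ctx

variable (C : Ctx F V)

lemma finrank_orth (U : Submodule F V) :
    finrank F (C.B.orthogonal U) = finrank F V - finrank F U :=
  LinearMap.BilinForm.finrank_orthogonal C.nondegenerate U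

/-- An isotropic subspace avoiding a Lagrangian `W` lies in a Lagrangian avoiding `W`. -/
lemma exists_lagrangian {W T : Submodule F V} (hW : ∀ x ∈ W, ∀ y ∈ W, C.B x y = 0)
    (hT : ∀ x ∈ T, ∀ y ∈ T, C.B x y = 0) (hTW : Disjoint T W) :
    ∃ W' : Submodule F V, T ≤ W' ∧ Disjoint W' W ∧ (∀ x ∈ W', ∀ y ∈ W', C.B x y = 0) ∧
      finrank F V = 2 * finrank F W' := by
  let S : Set (Submodule F V) :=
    {U | T ≤ U ∧ Disjoint U W ∧ ∀ x ∈ U, ∀ y ∈ U, C.B x y = 0}
  obtain ⟨U, ⟨hTU, hUW, hU⟩, hmax⟩ :=
    wellFounded_gt.has_min S ⟨T, le_rfl, hTW, hT⟩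
  refine ⟨U, hTU, hUW, hU, ?_⟩
  have hUU : U ≤ C.B.orthogonal U := fun x hx y hy => hU y hy x hx
  by_cases hle : C.B.orthogonal U ≤ U
  · have h1 := C.finrank_orth U
    rw [le_antisymm hle hUU] at h1
    have h2 := U.finrank_le
    omega
  exfalso
  obtain ⟨t, ht, htn⟩ : ∃ t ∈ C.B.orthogonal U, t ∉ U ⊔ W := by
    by_contra h
    push Not at h
    apply hle
    intro x hx
    obtain ⟨a, ha, b, hb, rfl⟩ := Submodule.mem_sup.1 (h x hx)
    have hbO : b ∈ C.B.orthogonal U := by
      have := (C.B.orthogonal U).sub_mem hx (hUU ha)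
      simpa using this
    have hb2 : b ∈ C.B.orthogonal (C.B.orthogonal U) := by
      intro z hz
      obtain ⟨c, hc, d, hd, rfl⟩ := Submodule.mem_sup.1 (h z hz)
      rw [map_add, LinearMap.add_apply, hbO c hc, hW d hd b hb, add_zero]
    rw [LinearMap.BilinForm.orthogonal_orthogonal C.nondegenerate C.isRefl] at hb2
    rw [show b = 0 from Submodule.disjoint_def.1 hUW b hb2 hb, add_zero]
    exact ha
  have hlt : U < U ⊔ Submodule.span F {t} := by
    refine lt_of_le_not_ge le_sup_left fun h => htn (Submodule.mem_sup_left (h ?_))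
    exact Submodule.mem_sup_right (Submodule.mem_span_singleton_self t)
  refine hmax (U ⊔ Submodule.span F {t}) ⟨hTU.trans le_sup_left, ?_, ?_⟩ hlt
  · rw [Submodule.disjoint_def]
    intro x hx hxW
    obtain ⟨a, ha, b, hb, rfl⟩ := Submodule.mem_sup.1 hx
    obtain ⟨c, rfl⟩ := Submodule.mem_span_singleton.1 hb
    by_cases hc : c = 0
    · rw [hc, zero_smul, add_zero] at hxW ⊢
      exact Submodule.disjoint_def.1 hUW a ha hxW
    · exfalso
      apply htn
      have : c • t ∈ U ⊔ W := by
        rw [show c • t = -a + (a + c • t) by abel]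
        exact add_mem (Submodule.mem_sup_left (U.neg_mem ha)) (Submodule.mem_sup_right hxW)
      have := (U ⊔ W).smul_mem c⁻¹ this
      rwa [inv_smul_smul₀ hc] at this
  · intro x hx y hy
    obtain ⟨a, ha, b, hb, rfl⟩ := Submodule.mem_sup.1 hx
    obtain ⟨a', ha', b', hb', rfl⟩ := Submodule.mem_sup.1 hy
    obtain ⟨c, rfl⟩ := Submodule.mem_span_singleton.1 hb
    obtain ⟨c', rfl⟩ := Submodule.mem_span_singleton.1 hb'
    simp [hU a ha a' ha', ht a ha, C.symm t a', ht a' ha', C.alt]

variable [Finite F]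

lemma commOn_top_of_datum {ι : Type} [Fintype ι] [DecidableEq ι] {e : ι → V} {A : Matrix ι ι F}
    (D : C.Datum ⊤ e A) (hA : GoodBlock A) : C.CommOn ⊤ := by
  classical
  set W := Submodule.span F (Set.range e) with hWdef
  have hW : ∀ x ∈ W, ∀ y ∈ W, C.B x y = 0 := by
    intro x hx y hy
    induction hx using Submodule.span_induction with
    | mem z hz =>
      obtain ⟨i, rfl⟩ := hz
      induction hy using Submodule.span_induction with
      | mem z hz => obtain ⟨j, rfl⟩ := hz; exact D.iso i j
      | zero => simp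
      | add a b _ _ ha hb => simp [ha, hb]
      | smul c a _ ha => simp [ha]
    | zero => simp
    | add a b _ _ ha hb => simp [ha, hb]
    | smul c a _ ha => simp [ha]
  set T := Submodule.span F (Set.range (C.tv e A)) with hTdef
  have hT : ∀ x ∈ T, ∀ y ∈ T, C.B x y = 0 := by
    intro x hx y hy
    induction hx using Submodule.span_induction with
    | mem z hz =>
      obtain ⟨i, rfl⟩ := hz
      induction hy using Submodule.span_induction with
      | mem z hz => obtain ⟨j, rfl⟩ := hz; exact D.tiso i j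
      | zero => simp
      | add a b _ _ ha hb => simp [ha, hb]
      | smul c a _ ha => simp [ha]
    | zero => simp
    | add a b _ _ ha hb => simp [ha, hb]
    | smul c a _ ha => simp [ha]
  have hTW : Disjoint T W := by
    rw [Submodule.disjoint_def]
    intro x hx hxW
    obtain ⟨c, rfl⟩ := (Submodule.mem_span_range_iff_exists_fun F).1 hx
    exact D.disj c hxW
  obtain ⟨W', hTW', hW'W, hW', hdim⟩ := C.exists_lagrangian hW hT hTW
  have hWcard : finrank F W = Fintype.card ι := finrank_span_eq_card D.indep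
  have hcard : finrank F V = 2 * Fintype.card ι := by
    rw [D.card, finrank_top]
  have hWperp : C.B.orthogonal W = W := by
    refine (Submodule.eq_of_le_of_finrank_le (show W ≤ C.B.orthogonal W from fun x hx y hy => hW y hy x hx) ?_).symm
    rw [C.finrank_orth, hWcard]
    omega
  let pr : W' →ₗ[F] (ι → F) := LinearMap.pi fun j => (C.B.flip (e j)).comp W'.subtype
  have hinj : Function.Injective pr := by
    rw [← LinearMap.ker_eq_bot, LinearMap.ker_eq_bot']
    intro y hy
    apply Subtype.ext
    refine Submodule.disjoint_def.1 hW'W y y.2 ?_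
    rw [← hWperp]
    intro z hz
    induction hz using Submodule.span_induction with
    | mem z hz =>
      obtain ⟨i, rfl⟩ := hz
      have h := congrFun hy i
      rw [C.symm, show C.B (y : V) (e i) = 0 from h, neg_zero]
    | zero => simp
    | add a b _ _ ha hb => simp [ha, hb]
    | smul c a _ ha => simp [ha]
  have hsurj : Function.Surjective pr :=
    (LinearMap.injective_iff_surjective_of_finrank_eq_finrank
      (by rw [Module.finrank_pi]; omega)).1 hinj
  choose f hf using fun i => hsurj (Pi.single i 1)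
  have hfe : ∀ i j, C.B (f i : V) (e j) = if i = j then 1 else 0 := by
    intro i j
    have h := congrFun (hf i) j
    rw [show C.B (f i : V) (e j) = pr (f i) j from rfl, h, Pi.single_apply]
    simp [eq_comm]
  have hff : ∀ i j, C.B (f i : V) (f j) = 0 := fun i j => hW' _ (f i).2 _ (f j).2
  let bv : ι ⊕ ι → V := Sum.elim e (fun i => (f i : V))
  have hli : LinearIndependent F bv := by
    rw [Fintype.linearIndependent_iff]
    intro c hc
    rw [Fintype.sum_sum_type] at hc
    have h1 : ∀ j, c (Sum.inr j) = 0 := by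
      intro j
      have := congrArg (fun z => C.B z (e j)) hc
      simpa [bv, D.iso, hfe, Finset.sum_ite_eq'] using this
    have h2 : ∀ j, c (Sum.inl j) = 0 := by
      intro j
      have := congrArg (fun z => C.B (f j : V) z) hc
      simpa [bv, hff, hfe, Finset.sum_ite_eq, h1] using this
    rintro (j | j)
    · exact h2 j
    · exact h1 j
  let b : Basis (ι ⊕ ι) F V := Basis.mk hli (by
    rw [hli.span_eq_top_of_card_eq_finrank' (by rw [Fintype.card_sum, hcard]; ring)])
  have hb : ∀ k, b k = bv k := fun k => by simp [b]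
  have hJ : LinearMap.BilinForm.toMatrix b C.B = Matrix.J ι F := by
    ext k l
    rw [LinearMap.BilinForm.toMatrix_apply, hb, hb]
    rcases k with k | k <;> rcases l with l | l
    · simp [bv, Matrix.J, D.iso]
    · simp [bv, Matrix.J, C.symm (e k), hfe, Matrix.one_apply, eq_comm]
    · simp [bv, Matrix.J, hfe, Matrix.one_apply]
    · simp [bv, Matrix.J, hff]
  have hmem : ∀ φ : V →ₗ[F] V, (∀ x y, C.B (φ x) (φ y) = C.B x y) ↔
      LinearMap.toMatrix b b φ ∈ Matrix.symplecticGroup ι F := by
    intro φ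
    rw [SymplecticGroup.mem_iff', ← hJ, ← LinearMap.BilinForm.toMatrix_comp b b,
      (LinearMap.BilinForm.toMatrix b).injective.eq_iff]
    exact ⟨fun h => LinearMap.ext fun x => LinearMap.ext fun y => h x y,
      fun h x y => LinearMap.congr_fun₂ h x y⟩
  let P : Sp ι F := ⟨LinearMap.toMatrix b b (C.g : V →ₗ[F] V), (hmem _).1 C.isom⟩
  have hblock : (P : Matrix (ι ⊕ ι) (ι ⊕ ι) F).toBlocks₁₁ = A := by
    ext i j
    show LinearMap.toMatrix b b (C.g : V →ₗ[F] V) (Sum.inl i) (Sum.inl j) = A i j
    rw [LinearMap.toMatrix_apply, hb]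
    have hcoef : ∀ x : V, b.repr x (Sum.inl i) = C.B (f i : V) x := by
      intro x
      conv_rhs => rw [← b.sum_repr x]
      simp [Fintype.sum_sum_type, hb, bv, hff, hfe, Finset.sum_ite_eq]
    rw [hcoef]
    show C.B (f i : V) (C.g (e j)) = A i j
    rw [show C.g (e j) = C.tv e A j + ∑ k, A k j • e k by simp [tv], map_add,
      hW' _ (f i).2 _ (hTW' (Submodule.subset_span ⟨j, rfl⟩))]
    simp [hfe, Finset.sum_ite_eq]
  obtain ⟨a, a', hP⟩ := comm_of_block P (hblock ▸ hA)
  let Φ : Sp ι F →* (V ≃ₗ[F] V) :=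
    ((LinearMap.GeneralLinearGroup.generalLinearEquiv F V).toMonoidHom).comp
      ((Units.map (Matrix.toLinAlgEquiv b).toRingEquiv.toMonoidHom).comp
        (Submonoid.subtype _).toHomUnits)
  have hΦ : ∀ M : Sp ι F, ((Φ M : V ≃ₗ[F] V) : V →ₗ[F] V) = Matrix.toLin b b M.1 := fun M => rfl
  refine ⟨Φ a, Φ a', ?_, ?_, fun x hx => ?_, fun x hx => ?_, fun x _ => ?_⟩
  · intro x y
    exact (hmem (Φ a : V →ₗ[F] V)).2 (by rw [hΦ, LinearMap.toMatrix_toLin]; exact a.2) x y
  · intro x y
    exact (hmem (Φ a' : V →ₗ[F] V)).2 (by rw [hΦ, LinearMap.toMatrix_toLin]; exact a'.2) x y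
  · have : x = 0 := C.nondeg x fun y => by rw [C.symm, hx y Submodule.mem_top, neg_zero]
    rw [this, map_zero]
  · have : x = 0 := C.nondeg x fun y => by rw [C.symm, hx y Submodule.mem_top, neg_zero]
    rw [this, map_zero]
  · rw [← map_inv, ← map_inv, ← map_mul, ← map_mul, ← map_mul, ← hP]
    show _ = (Φ P : V →ₗ[F] V) x
    rw [hΦ]
    show _ = Matrix.toLin b b (LinearMap.toMatrix b b (C.g : V →ₗ[F] V)) x
    rw [Matrix.toLin_toMatrix]
    rfl

omit [Finite F] in
/-- The restriction to a nondegenerate stable subspace. -/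
noncomputable def res {M : Submodule F V} (hM : C.Nondeg M) (hS : C.Stable M) : Ctx F M where
  B := C.B.restrict M
  g := LinearEquiv.ofBijective ((C.g : V →ₗ[F] V).restrict hS)
    (have hinj : Function.Injective ((C.g : V →ₗ[F] V).restrict hS) := fun a b h =>
      Subtype.ext (C.g.injective (congrArg Subtype.val h))
     ⟨hinj, LinearMap.injective_iff_surjective.1 hinj⟩)
  alt x := C.alt x
  nondeg x h := Subtype.ext (hM x x.2 fun y hy => h ⟨y, hy⟩)
  isom x y := C.isom x y

omit [Finite F] in
lemma commOn_of_res {M : Submodule F V} (hM : C.Nondeg M) (hS : C.Stable M)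
    (h : (C.res hM hS).CommOn ⊤) : C.CommOn M := by
  set C' := C.res hM hS with hC'
  obtain ⟨a, b, ha, hb, hab⟩ := C'.comm_of_commOn_top h
  have hc := C.isCompl_orth hM
  let π := Submodule.prodEquivOfIsCompl M (C.B.orthogonal M) hc
  let ext : (M ≃ₗ[F] M) →* (V ≃ₗ[F] V) :=
    { toFun := fun φ => π.symm.trans ((φ.prodCongr (LinearEquiv.refl F _)).trans π)
      map_one' := by
        apply LinearEquiv.ext
        intro x
        exact π.apply_symm_apply x
      map_mul' := fun φ ψ => by
        apply LinearEquiv.ext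
        intro x
        simp [LinearEquiv.mul_eq_trans] }
  have hext : ∀ (φ : M ≃ₗ[F] M) (m : M) (n : C.B.orthogonal M),
      ext φ ((m : V) + n) = (φ m : V) + n := by
    intro φ m n
    show π ((φ.prodCongr (LinearEquiv.refl F _)) (π.symm ((m : V) + n))) = _
    rw [show (m : V) + n = π (m, n) from
      (Submodule.coe_prodEquivOfIsCompl' M (C.B.orthogonal M) hc (m, n)).symm,
      π.symm_apply_apply]
    exact Submodule.coe_prodEquivOfIsCompl' M (C.B.orthogonal M) hc (φ m, n)
  have hmem : ∀ φ ∈ C'.isoGroup, ext φ ∈ C.isoGroup := by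
    intro φ hφ x y
    obtain ⟨⟨m, n⟩, rfl⟩ := π.surjective x
    obtain ⟨⟨m', n'⟩, rfl⟩ := π.surjective y
    simp only [π, Submodule.coe_prodEquivOfIsCompl']
    rw [hext, hext]
    have h1 : C.B (φ m : V) (φ m' : V) = C.B (m : V) m' := hφ m m'
    have h2 : C.B (n : V) (φ m' : V) = 0 := by
      rw [C.symm, n.2 _ (φ m').2, neg_zero]
    have h3 : C.B (n : V) (m' : V) = 0 := by
      rw [C.symm, n.2 _ m'.2, neg_zero]
    have h4 : C.B (φ m : V) (n' : V) = 0 := n'.2 _ (φ m).2
    have h5 : C.B (m : V) (n' : V) = 0 := n'.2 _ m.2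
    simp only [map_add, LinearMap.add_apply, h1, h2, h3, h4, h5]
  refine ⟨ext a, ext b, hmem a ha, hmem b hb, fun x hx => ?_, fun x hx => ?_, fun x hx => ?_⟩
  · simpa using hext a 0 ⟨x, hx⟩
  · simpa using hext b 0 ⟨x, hx⟩
  · rw [← map_inv, ← map_inv, ← map_mul, ← map_mul, ← map_mul, ← hab]
    have := hext C'.g ⟨x, hx⟩ 0
    rw [ZeroMemClass.coe_zero, add_zero, add_zero] at this
    rw [this]
    rfl

lemma commOn_of_datum {M : Submodule F V} (hM : C.Nondeg M) (hS : C.Stable M) {ι : Type}
    [Fintype ι] [DecidableEq ι] {e : ι → V} {A : Matrix ι ι F}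
    (D : C.Datum M e A) (hA : GoodBlock A) : C.CommOn M := by
  set C' := C.res hM hS with hC'
  let e' : ι → M := fun i => ⟨e i, D.mem i⟩
  have htv : ∀ j, ((C'.tv e' A j : M) : V) = C.tv e A j := by
    intro j
    simp [tv, C', res, e']
    rfl
  have D' : C'.Datum ⊤ e' A := by
    refine ⟨fun _ => Submodule.mem_top, LinearIndependent.of_comp M.subtype D.indep,
      fun i j => D.iso i j, by rw [D.card, finrank_top], fun i j => ?_, fun c hc => ?_⟩
    · show C.B ((C'.tv e' A i : M) : V) ((C'.tv e' A j : M) : V) = 0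
      rw [htv, htv]
      exact D.tiso i j
    · have h := Submodule.mem_map_of_mem (f := M.subtype) hc
      rw [Submodule.map_span, ← Set.range_comp, map_sum] at h
      simp only [map_smul, Submodule.subtype_apply, htv] at h
      apply Subtype.ext
      rw [ZeroMemClass.coe_zero, AddSubmonoidClass.coe_finsetSum]
      simp only [SetLike.val_smul, htv]
      exact D.disj c h
  exact C.commOn_of_res hM hS (C'.commOn_top_of_datum D' hA)

end Ctx

end Cfsg.Agent.Lib.SpCommutator
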