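import Cfsg.Agent.Lib.SpCommutator.PairDatum

/-!
# Isometries from linear parametrisations (helper52)
-/

set_option autoImplicit false

namespace Cfsg.Agent.Lib.SpCommutator

open Module

universe u

variable {F : Type u} [Field F] {V : Type u} [AddCommGroup V] [Module F V] [FiniteDimensional F V]

namespace Ctx

variable (C : Ctx F V)

lemma exists_iso_param {P : Type*} [AddCommGroup P] [Module F P] (Φ Φ' : P →ₗ[F] V)
    (hΦ : Function.Surjective Φ)
    (hG : ∀ h k, C.B (Φ' h) (Φ' k) = C.B (Φ h) (Φ k)) :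
    ∃ φ ∈ C.isoGroup, ∀ h, φ (Φ h) = Φ' h := by
  obtain ⟨s, hs⟩ := Φ.exists_rightInverse_of_surjective (LinearMap.range_eq_top.2 hΦ)
  have hs' : ∀ x, Φ (s x) = x := LinearMap.congr_fun hs
  let ψ : V →ₗ[F] V := Φ'.comp s
  have hψ : ∀ x y, C.B (ψ x) (ψ y) = C.B x y := fun x y => by
    show C.B (Φ' (s x)) (Φ' (s y)) = _
    rw [hG, hs', hs']
  have hinj : Function.Injective ψ := by
    rw [← LinearMap.ker_eq_bot, LinearMap.ker_eq_bot']
    intro x hx
    exact C.nondeg x fun y => by rw [← hψ, hx, map_zero, LinearMap.zero_apply]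
  let φ : V ≃ₗ[F] V := LinearEquiv.ofBijective ψ
    ⟨hinj, LinearMap.injective_iff_surjective.1 hinj⟩
  refine ⟨φ, fun x y => hψ x y, fun h => ?_⟩
  show ψ (Φ h) = Φ' h
  rw [← sub_eq_zero]
  refine C.nondeg _ fun y => ?_
  obtain ⟨x, rfl⟩ := LinearMap.injective_iff_surjective.1 hinj y
  show C.B (ψ (Φ h) - Φ' h) (Φ' (s x)) = 0
  rw [map_sub, LinearMap.sub_apply]
  show C.B (Φ' (s (Φ h))) (Φ' (s x)) - _ = 0
  rw [hG, hG, hs', sub_self]

omit [FiniteDimensional F V] in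
lemma commOn_top_of_eq {a b : V ≃ₗ[F] V} (ha : a ∈ C.isoGroup) (hb : b ∈ C.isoGroup)
    (h : ∀ x, a (b x) = C.g (b (a x))) : C.CommOn ⊤ := by
  have hfix : ∀ x ∈ C.B.orthogonal (⊤ : Submodule F V), x = 0 := fun x hx =>
    C.nondeg x fun y => by rw [C.symm, hx y Submodule.mem_top, neg_zero]
  refine ⟨a, b, ha, hb, fun x hx => by rw [hfix x hx, map_zero],
    fun x hx => by rw [hfix x hx, map_zero], fun x _ => ?_⟩
  show C.g x = a (b (a.symm (b.symm x)))
  rw [h, a.apply_symm_apply, b.apply_symm_apply]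

end Ctx

end Cfsg.Agent.Lib.SpCommutator
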