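import Cfsg.Agent.Lib.SpCommutator.Iso

/-!
# Explicit commutators over the field with three elements (helper52)
-/

set_option autoImplicit false

namespace Cfsg.Agent.Lib.SpCommutator

open Module Matrix

universe u

/-- Gram matrix of a hyperbolic pair. -/
def gram2 (δ : ZMod 3) : Matrix (Fin 2) (Fin 2) (ZMod 3) := !![0, δ; -δ, 0]

/-- The isometry in the basis `y, g y`. -/
def act2 (τ : ZMod 3) : Matrix (Fin 2) (Fin 2) (ZMod 3) := !![0, -1; 1, τ]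

/-- Gram matrix of two hyperbolic pairs. -/
def gram4 (δ : ZMod 3) : Matrix (Fin 4) (Fin 4) (ZMod 3) :=
  !![0, 1, 0, 0; -1, 0, 0, 0; 0, 0, 0, δ; 0, 0, -δ, 0]

/-- `-1` on the first pair, `act2` on the second. -/
def act4 (τ : ZMod 3) : Matrix (Fin 4) (Fin 4) (ZMod 3) :=
  !![-1, 0, 0, 0; 0, -1, 0, 0; 0, 0, 0, -1; 0, 0, 1, τ]

set_option maxRecDepth 8000 in
lemma exists_two (δ : ZMod 3) (hδ : δ ≠ 0) :
    ∃ a b : Matrix (Fin 2) (Fin 2) (ZMod 3), aᵀ * gram2 δ * a = gram2 δ ∧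
      bᵀ * gram2 δ * b = gram2 δ ∧ a * b = act2 0 * (b * a) := by
  obtain rfl | rfl : δ = 1 ∨ δ = 2 := by revert hδ; revert δ; decide
  · exact ⟨!![1, 1; 0, 1], !![1, 0; 1, 1], by decide, by decide, by decide⟩
  · exact ⟨!![1, 0; 2, 1], !![0, 1; 2, 2], by decide, by decide, by decide⟩

set_option maxRecDepth 8000 in
lemma exists_four (δ τ : ZMod 3) (hδ : δ ≠ 0) (hτ : τ ≠ 0) :
    ∃ a b : Matrix (Fin 4) (Fin 4) (ZMod 3), aᵀ * gram4 δ * a = gram4 δ ∧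
      bᵀ * gram4 δ * b = gram4 δ ∧ a * b = act4 τ * (b * a) := by
  obtain rfl | rfl : δ = 1 ∨ δ = 2 := by revert hδ; revert δ; decide
  all_goals obtain rfl | rfl : τ = 1 ∨ τ = 2 := by revert hτ; revert τ; decide
  · exact ⟨!![1, 0, 0, 1; 2, 2, 1, 0; 2, 2, 2, 0; 0, 1, 1, 1], !![0, 0, 2, 0; 0, 0, 0, 2; 0, 1, 0, 0; 2, 2, 0, 0], by decide, by decide, by decide⟩
  · exact ⟨!![1, 1, 2, 2; 2, 1, 0, 1; 2, 0, 1, 2; 0, 1, 2, 0], !![0, 0, 2, 2; 0, 0, 1, 0; 0, 2, 0, 0; 1, 0, 0, 0], by decide, by decide, by decide⟩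
  · exact ⟨!![1, 2, 0, 2; 0, 2, 1, 0; 1, 2, 0, 1; 0, 1, 1, 0], !![0, 0, 0, 2; 0, 0, 2, 2; 1, 0, 0, 0; 0, 2, 0, 0], by decide, by decide, by decide⟩
  · exact ⟨!![1, 1, 1, 2; 1, 0, 2, 2; 1, 1, 2, 1; 0, 1, 1, 0], !![0, 0, 1, 0; 0, 0, 0, 2; 1, 2, 0, 0; 2, 0, 0, 0], by decide, by decide, by decide⟩

variable {F : Type u} [Field F] {V : Type u} [AddCommGroup V] [Module F V] [FiniteDimensional F V]

namespace Ctx

variable (C : Ctx F V)

lemma commOn_of_matrix {n : ℕ} (φ : ZMod 3 →+* F) {M : Submodule F V} (hM : C.Nondeg M)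
    (hS : C.Stable M) (bb : Fin n → V) (hspan : Submodule.span F (Set.range bb) = M)
    (J G a b : Matrix (Fin n) (Fin n) (ZMod 3))
    (hJ : ∀ i j, C.B (bb i) (bb j) = φ (J i j))
    (hG : ∀ j, C.g (bb j) = ∑ i, φ (G i j) • bb i)
    (ha : aᵀ * J * a = J) (hb : bᵀ * J * b = J) (hab : a * b = G * (b * a)) : C.CommOn M := by
  apply C.commOn_of_res hM hS
  set D := C.res hM hS with hD
  have hmem : ∀ i, bb i ∈ M := fun i => hspan ▸ Submodule.subset_span ⟨i, rfl⟩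
  let Φ : (Fin n → F) →ₗ[F] M := Fintype.linearCombination F (fun i => (⟨bb i, hmem i⟩ : M))
  have hΦv : ∀ h, (Φ h : V) = ∑ i, h i • bb i := fun h => by
    simp [Φ, Fintype.linearCombination_apply]
  have hΦ : Function.Surjective Φ := by
    intro x
    obtain ⟨c, hc⟩ := (Submodule.mem_span_range_iff_exists_fun F).1 (hspan.symm ▸ x.2 :
      (x : V) ∈ Submodule.span F (Set.range bb))
    exact ⟨c, Subtype.ext (by rw [hΦv, hc])⟩
  have hgram : ∀ h k, D.B (Φ h) (Φ k) = h ⬝ᵥ (J.map φ) *ᵥ k := by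
    intro h k
    show C.B (Φ h : V) (Φ k : V) = _
    rw [hΦv, hΦv]
    simp only [dotProduct, Matrix.mulVec, Matrix.map_apply, map_smul, LinearMap.smul_apply,
      LinearMap.sum_apply, map_sum, hJ, smul_eq_mul, Finset.mul_sum]
    rw [Finset.sum_comm]
    exact Finset.sum_congr rfl fun i _ => Finset.sum_congr rfl fun j _ => by ring
  have hact : ∀ h, D.g (Φ h) = Φ ((G.map φ) *ᵥ h) := by
    intro h
    apply Subtype.ext
    show C.g (Φ h : V) = _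
    rw [hΦv, hΦv, map_sum]
    simp only [map_smul, hG, Finset.smul_sum, smul_smul, Matrix.mulVec, dotProduct,
      Matrix.map_apply, Finset.sum_smul]
    rw [Finset.sum_comm]
    exact Finset.sum_congr rfl fun i _ => Finset.sum_congr rfl fun j _ => by rw [mul_comm]
  have hiso : ∀ c : Matrix (Fin n) (Fin n) (ZMod 3), cᵀ * J * c = J →
      ∃ ψ ∈ D.isoGroup, ∀ h, ψ (Φ h) = Φ ((c.map φ) *ᵥ h) := by
    intro c hc
    refine D.exists_iso_param Φ (Φ.comp (Matrix.mulVecLin (c.map φ))) hΦ fun h k => ?_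
    simp only [LinearMap.comp_apply, Matrix.mulVecLin_apply, hgram]
    have hc' : (c.map φ)ᵀ * J.map φ * c.map φ = J.map φ := by
      rw [← Matrix.transpose_map, ← Matrix.map_mul, ← Matrix.map_mul, hc]
    rw [← Matrix.vecMul_transpose, ← Matrix.dotProduct_mulVec, Matrix.mulVec_mulVec,
      Matrix.mulVec_mulVec, hc']
  obtain ⟨ψa, hψa, ha'⟩ := hiso a ha
  obtain ⟨ψb, hψb, hb'⟩ := hiso b hb
  refine D.commOn_top_of_eq hψa hψb fun x => ?_
  obtain ⟨h, rfl⟩ := hΦ x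
  rw [hb', ha', ha', hb', hact, Matrix.mulVec_mulVec, Matrix.mulVec_mulVec,
    Matrix.mulVec_mulVec, ← Matrix.map_mul, hab, Matrix.map_mul, Matrix.map_mul, Matrix.mul_assoc]

end Ctx

end Cfsg.Agent.Lib.SpCommutator
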