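import Cfsg.Agent.Lib.SpCommutator.Tensor
import Cfsg.Agent.Lib.SpCommutator.Small

/-!
# Every isometry of a symplectic space is a commutator (helper52)
-/

set_option autoImplicit false

namespace Cfsg.Agent.Lib.SpCommutator

open Module

universe u

variable {F : Type u} [Field F] {V : Type u} [AddCommGroup V] [Module F V] [FiniteDimensional F V]

namespace Ctx

variable {C : Ctx F V}

lemma res_NN_pow {M : Submodule F V} (hM : C.Nondeg M) (hS : C.Stable M) (l : F) (n : ℕ) (x : M) :
    ((((C.res hM hS).NN l ^ n) x : M) : V) = (C.NN l ^ n) (x : V) := by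
  induction n generalizing x with
  | zero => rfl
  | succ n ih =>
    rw [pow_succ, pow_succ, Module.End.mul_apply, Module.End.mul_apply, ih]
    rfl

lemma IsBad.commOn [Finite F] {U : Submodule F V} (hU : C.Nondeg U) (hS : C.Stable U)
    (h : C.IsBad U) : C.CommOn U := by
  obtain ⟨f, hdim, hk, ⟨v, hv, y, hy, hne⟩, -⟩ := h.ex
  refine C.commOn_of_res hU hS (BadTop.commOn (f := f) ⟨h.two, hdim, fun x => Subtype.ext ?_,
    fun x => ?_, ⟨v, hv⟩, ⟨y, hy⟩, ?_⟩)
  · rw [res_NN_pow, ZeroMemClass.coe_zero]; exact (hk x x.2).1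
  · show C.B (x : V) _ = 0
    rw [Submodule.subtype_apply, res_NN_pow]; exact (hk x x.2).2
  · show C.B v _ ≠ 0
    rw [Submodule.subtype_apply, res_NN_pow]; exact hne

lemma stable_inf {M U : Submodule F V} (hM : C.Stable M) (hU : C.Stable U) :
    C.Stable (M ⊓ C.B.orthogonal U) :=
  fun x hx => ⟨hM x hx.1, C.stable_orth hU x hx.2⟩

lemma sup_inf_orth {M U : Submodule F V} (hU : C.Nondeg U) (hle : U ≤ M) :
    U ⊔ (M ⊓ C.B.orthogonal U) = M := by
  rw [inf_comm, ← sup_inf_assoc_of_le _ hle, (C.isCompl_orth hU).sup_eq_top, top_inf_eq]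

lemma orth_inf {M U : Submodule F V} :
    ∀ x ∈ U, ∀ y ∈ M ⊓ C.B.orthogonal U, C.B x y = 0 := fun x hx _ hy => hy.2 x hx

lemma nondeg_inf {M U : Submodule F V} (hM : C.Nondeg M) (hU : C.Nondeg U) (hle : U ≤ M) :
    C.Nondeg (M ⊓ C.B.orthogonal U) := by
  intro x hx h
  refine hM x hx.1 fun y hy => ?_
  rw [← sup_inf_orth hU hle] at hy
  obtain ⟨a, ha, b, hb, rfl⟩ := Submodule.mem_sup.1 hy
  rw [map_add, h b hb, add_zero, C.symm, hx.2 a ha, neg_zero]

lemma finrank_inf {M U : Submodule F V} (hU : C.Nondeg U) (hle : U ≤ M) :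
    finrank F U + finrank F (M ⊓ C.B.orthogonal U : Submodule F V) = finrank F M := by
  have := Submodule.finrank_sup_add_finrank_inf_eq U (M ⊓ C.B.orthogonal U)
  rw [sup_inf_orth hU hle, (C.disjoint_of_orth hU orth_inf).eq_bot, finrank_bot, add_zero] at this
  exact this.symm

lemma finrank_pos {U : Submodule F V} (hne : U ≠ ⊥) : 0 < finrank F U := by
  rcases Nat.eq_zero_or_pos (finrank F U) with h | h
  · exact absurd (Submodule.finrank_eq_zero.1 h) hne
  · exact h

lemma tame_or_bad {M : Submodule F V} (hM : C.Nondeg M) (hS : C.Stable M) :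
    C.Tame M ∨ ∃ U ≤ M, U ≠ ⊥ ∧ C.Nondeg U ∧ C.Stable U ∧ C.IsBad U := by
  induction hn : finrank F M using Nat.strong_induction_on generalizing M with
  | h n ih =>
  by_cases hb : M = ⊥
  · subst hb
    refine Or.inl ⟨Fin 0, inferInstance, inferInstance, Fin.elim0, ?_⟩
    exact ⟨fun i => i.elim0, linearIndependent_empty_type, fun i => i.elim0, by simp,
      fun i => i.elim0, fun c _ => by simp⟩
  obtain ⟨U, hle, hne, hU, hsU, hT | hB⟩ := C.exists_piece hM hS hb
  swap
  · exact Or.inr ⟨U, hle, hne, hU, hsU, hB⟩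
  have hdim := finrank_inf hU hle
  have := finrank_pos hne
  rcases ih _ (by omega) (nondeg_inf hM hU hle) (stable_inf hS hsU) rfl with
    hR | ⟨U', hle', hU'⟩
  · left
    obtain ⟨ι, i1, i2, e, D⟩ := hT
    obtain ⟨κ, j1, j2, e', D'⟩ := hR
    have h := D.sum hU orth_inf hsU (stable_inf hS hsU) D'
    rw [sup_inf_orth hU hle, Matrix.fromBlocks_one] at h
    exact ⟨ι ⊕ κ, inferInstance, inferInstance, _, h⟩
  · exact Or.inr ⟨U', hle'.trans inf_le_left, hU'⟩

variable [Fintype F]

lemma small_plane (h3 : Fintype.card F = 3) {R : Submodule F V} (hR : C.Nondeg R)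
    (hS : C.Stable R) (hd : finrank F R = 2) :
    C.CommOn R ∨ ∃ y ∈ R, ∃ δ τ : ZMod 3, δ ≠ 0 ∧ τ ≠ 0 ∧
      LinearIndependent F ![y, C.g y] ∧ Submodule.span F (Set.range ![y, C.g y]) = R ∧
      ∀ φ : ZMod 3 →+* F, C.B y (C.g y) = φ δ ∧ C.g (C.g y) = φ τ • C.g y - y := by
  classical
  have : CharP F 3 := charP_of_card_eq_prime h3
  set φ0 : ZMod 3 →+* F := ZMod.castHom dvd_rfl F
  have hbij : Function.Bijective φ0 := by
    rw [Fintype.bijective_iff_injective_and_card, ZMod.card, h3]
    exact ⟨φ0.injective, rfl⟩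
  by_cases hy : ∃ y ∈ R, LinearIndependent F ![y, C.g y]
  · obtain ⟨y, hy, hli⟩ := hy
    have hspan : Submodule.span F (Set.range ![y, C.g y]) = R := by
      apply Submodule.eq_of_le_of_finrank_eq
      · rw [Submodule.span_le]
        rintro _ ⟨i, rfl⟩
        fin_cases i
        · exact hy
        · exact hS y hy
      · rw [finrank_span_eq_card hli, hd, Fintype.card_fin]
    have hmem : ∀ x ∈ R, ∃ a b : F, a • y + b • C.g y = x := by
      intro x hx
      rw [← hspan] at hx
      obtain ⟨c, hc⟩ := (Submodule.mem_span_range_iff_exists_fun F).1 hx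
      exact ⟨c 0, c 1, by rw [← hc, Fin.sum_univ_two]; simp⟩
    obtain ⟨δ, hδ⟩ := hbij.2 (C.B y (C.g y))
    have hδ0 : C.B y (C.g y) ≠ 0 := by
      intro h0
      have : y = 0 := hR y hy fun x hx => by
        obtain ⟨a, b, rfl⟩ := hmem x hx
        simp [C.alt, h0]
      exact hli.ne_zero 0 (by simpa using this)
    obtain ⟨a, b, hab⟩ := hmem _ (hS _ (hS y hy))
    have ha : a = -1 := by
      have h := C.isom y (C.g y)
      rw [← hab, map_add, map_smul, map_smul, C.alt, smul_zero, add_zero, smul_eq_mul,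
        C.symm (C.g y) y] at h
      have : (a + 1) * C.B y (C.g y) = 0 := by linear_combination -h
      exact eq_neg_of_add_eq_zero_left ((mul_eq_zero.1 this).resolve_right hδ0)
    obtain ⟨τ, hτ⟩ := hbij.2 b
    have hggy : C.g (C.g y) = φ0 τ • C.g y - y := by
      rw [← hab, ha, hτ, neg_one_smul]; abel
    by_cases hτ0 : τ = 0
    · left
      obtain ⟨A, B, hA, hB, hAB⟩ := exists_two δ (fun h => hδ0 (by rw [← hδ, h, map_zero]))
      refine C.commOn_of_matrix φ0 hR hS ![y, C.g y] hspan (gram2 δ) (act2 0) A B ?_ ?_ hA hB hAB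
      · intro i j
        fin_cases i <;> fin_cases j <;> simp [gram2, C.alt, hδ, C.symm (C.g y) y]
      · intro j
        fin_cases j <;> simp [act2, Fin.sum_univ_two, hggy, hτ0]
    · exact Or.inr ⟨y, hy, δ, τ, fun h => hδ0 (by rw [← hδ, h, map_zero]), hτ0, hli, hspan,
        fun φ => by rw [RingHom.ext_zmod φ φ0, hδ]; exact ⟨rfl, hggy⟩⟩
  · left
    push Not at hy
    have heig : ∀ y ∈ R, ∃ μ : F, y = 0 ∨ C.g y = μ • y := by
      intro y hyR
      have h := hy y hyR
      rw [LinearIndependent.pair_iff] at h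
      push Not at h
      obtain ⟨s, t, hst, hne⟩ := h
      by_cases ht : t = 0
      · refine ⟨0, Or.inl ?_⟩
        rw [ht, zero_smul, add_zero] at hst
        rcases smul_eq_zero.1 hst with h | h
        · exact absurd ht (hne h)
        · exact h
      · refine ⟨-(t⁻¹ * s), Or.inr ?_⟩
        have h' := congrArg (t⁻¹ • ·) hst
        simp only [smul_add, smul_smul, inv_mul_cancel₀ ht, one_smul, smul_zero] at h'
        rw [neg_smul]
        exact eq_neg_of_add_eq_zero_right h'
    have hne : R ≠ ⊥ := fun h => by rw [h, finrank_bot] at hd; omega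
    obtain ⟨U, hle, hUne, hU, hsU, hT | hB⟩ := C.exists_piece hR hS hne
    · obtain ⟨ι, i1, i2, e, D⟩ := hT
      have hUR : U = R := by
        apply Submodule.eq_of_le_of_finrank_le hle
        have := finrank_pos hUne
        have := D.card
        omega
      subst hUR
      have hc : Fintype.card ι = 1 := by have := D.card; omega
      obtain ⟨i⟩ : Nonempty ι := Fintype.card_pos_iff.1 (by omega)
      have he0 : e i ≠ 0 := D.indep.ne_zero i
      obtain ⟨μ, h | hμ⟩ := heig _ (D.mem i)
      · exact absurd h he0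
      have htv : C.tv e (1 : Matrix ι ι F) i = (μ - 1) • e i := by
        rw [tv_one, gl_apply, hμ, sub_smul, one_smul]
      have hμ1 : C.g (e i) = e i := by
        have h0 := D.disj (Pi.single i 1) (by
          simp only [Pi.single_apply, ite_smul, one_smul, zero_smul, Finset.sum_ite_eq',
            Finset.mem_univ, if_true, htv]
          exact Submodule.smul_mem _ _ (Submodule.subset_span ⟨i, rfl⟩))
        simp only [Pi.single_apply, ite_smul, one_smul, zero_smul, Finset.sum_ite_eq',
          Finset.mem_univ, if_true, htv] at h0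
        rw [hμ, (sub_eq_zero.1 ((smul_eq_zero.1 h0).resolve_right he0)), one_smul]
      refine ⟨1, 1, one_mem _, one_mem _, fun _ _ => rfl, fun _ _ => rfl, fun x hx => ?_⟩
      simp only [mul_one, inv_one]
      show C.g x = x
      by_cases hx' : ∃ c : F, c • e i = x
      · obtain ⟨c, rfl⟩ := hx'
        rw [map_smul, hμ1]
      push Not at hx'
      obtain ⟨ν, h | hν⟩ := heig x hx
      · exact absurd (by rw [h, zero_smul]) (hx' 0)
      obtain ⟨κ, h | hκ⟩ := heig _ (U.add_mem hx (D.mem i))
      · exact absurd (by rw [neg_one_smul]; exact (eq_neg_of_add_eq_zero_left h).symm) (hx' (-1))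
      rw [map_add, hν, hμ1, smul_add] at hκ
      have h1 : (1 - κ) • e i = (κ - ν) • x := by
        rw [sub_smul, sub_smul, one_smul]
        linear_combination (norm := module) hκ
      by_cases hκν : κ - ν = 0
      · rw [hκν, zero_smul] at h1
        have := (smul_eq_zero.1 h1).resolve_right he0
        rw [hν, ← sub_eq_zero.1 hκν, ← sub_eq_zero.1 this, one_smul]
      · refine absurd ?_ (hx' ((κ - ν)⁻¹ * (1 - κ)))
        rw [← smul_smul, h1, inv_smul_smul₀ hκν]
    · have hUR : U = R := by
        apply Submodule.eq_of_le_of_finrank_le hle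
        obtain ⟨f, hf, -⟩ := hB.ex
        omega
      subst hUR
      exact hB.commOn hU hsU

/-- Every isometry is a commutator, apart from the exceptional dimensions. -/
theorem commOn_of_dim {M : Submodule F V} (hM : C.Nondeg M) (hS : C.Stable M)
    (h2 : Fintype.card F = 2 → finrank F M = 0 ∨ 6 ≤ finrank F M)
    (h3 : Fintype.card F = 3 → finrank F M ≠ 2) : C.CommOn M := by
  classical
  induction hn : finrank F M using Nat.strong_induction_on generalizing M with
  | h n ih =>
  rcases tame_or_bad hM hS with ⟨ι, i1, i2, e, D⟩ | ⟨U, hle, hne, hU, hsU, hB⟩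
  · by_cases h0 : Fintype.card ι = 0
    · have : M = ⊥ := Submodule.finrank_eq_zero.1 (by rw [← D.card, h0])
      rw [this]; exact C.commOn_bot
    refine C.commOn_of_datum hM hS D (goodBlock_one rfl ⟨fun h => ?_, fun h => ?_⟩)
    · have := D.card; have := h2 h; omega
    · have := D.card; have := h3 h; omega
  have hUc := hB.commOn hU hsU
  set R := M ⊓ C.B.orthogonal U with hRdef
  have hdim := finrank_inf hU hle
  have hUpos := finrank_pos hne
  have hRn := nondeg_inf hM hU hle
  have hRs := stable_inf hS hsU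
  have hsup := sup_inf_orth hU hle
  have hq2 : Fintype.card F ≠ 2 := fun h => hB.two (by
    have : CharP F 2 := charP_of_card_eq_prime h
    exact CharP.cast_eq_zero F 2)
  by_cases hexc : Fintype.card F = 3 ∧ finrank F R = 2
  swap
  · rw [← hsup]
    exact hUc.sup hU hRn orth_inf (ih _ (by omega) hRn hRs (fun h => absurd h hq2)
      (fun h => fun h' => hexc ⟨h, h'⟩) rfl)
  obtain ⟨hq3, hR2⟩ := hexc
  rcases small_plane hq3 hRn hRs hR2 with hRc | ⟨y, hy, δ, τ, hδ, hτ, hli, hspan, hyφ⟩
  · rw [← hsup]; exact hUc.sup hU hRn orth_inf hRc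
  have : CharP F 3 := charP_of_card_eq_prime hq3
  set φ : ZMod 3 →+* F := ZMod.castHom dvd_rfl F
  obtain ⟨hyδ, hyτ⟩ := hyφ φ
  obtain ⟨f, hUdim, hk, ⟨v, hv, w, hw, hvw⟩, eU, DU⟩ := hB.ex
  rcases Nat.eq_zero_or_pos f with rfl | hf
  · have hneg : ∀ x ∈ U, C.g x = -x := by
      intro x hx
      have := (hk x hx).1
      simp only [Nat.mul_zero, zero_add, pow_one] at this
      simpa [NN, eq_neg_iff_add_eq_zero, gl_apply] using this
    simp only [Nat.mul_zero, pow_zero, Module.End.one_apply] at hvw
    set w' := (C.B v w)⁻¹ • w with hw'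
    have hw'U : w' ∈ U := U.smul_mem _ hw
    have hvw' : C.B v w' = 1 := by rw [hw', map_smul, smul_eq_mul, inv_mul_cancel₀ hvw]
    have hUspan : Submodule.span F (Set.range ![v, w']) = U := by
      apply Submodule.eq_of_le_of_finrank_eq
      · rw [Submodule.span_le]
        rintro _ ⟨i, rfl⟩
        fin_cases i
        · exact hv
        · exact hw'U
      · rw [finrank_span_eq_card, hUdim, Fintype.card_fin]
        rw [LinearIndependent.pair_iff]
        intro s t hst
        have h1 := congrArg (C.B v) hst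
        have h2 := congrArg (C.B w') hst
        simp only [map_add, map_smul, C.alt, hvw', C.symm w' v, smul_eq_mul, mul_zero, mul_one,
          zero_add, add_zero, map_zero, mul_neg, neg_eq_zero] at h1 h2
        exact ⟨h2, h1⟩
    obtain ⟨A, B, hA, hB', hAB⟩ := exists_four δ τ hδ hτ
    have hgy : C.g y ∈ R := hRs y hy
    have o1 : C.B v y = 0 := orth_inf v hv y hy
    have o2 : C.B v (C.g y) = 0 := orth_inf v hv _ hgy
    have o3 : C.B w' y = 0 := orth_inf w' hw'U y hy
    have o4 : C.B w' (C.g y) = 0 := orth_inf w' hw'U _ hgy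
    refine C.commOn_of_matrix φ hM hS ![v, w', y, C.g y] ?_ (gram4 δ) (act4 τ) A B ?_ ?_ hA hB' hAB
    · rw [← hsup, ← hspan, ← hUspan, ← Submodule.span_union]
      congr 1
      ext x
      simp [Set.mem_range, Fin.exists_fin_succ, or_assoc]
    · intro i j
      fin_cases i <;> fin_cases j <;>
        simp [gram4, C.alt, hvw', C.symm w' v, o1, o2, o3, o4, hyδ, C.symm (C.g y) y,
          C.symm y v, C.symm y w', C.symm (C.g y) v, C.symm (C.g y) w']
    · intro j
      fin_cases j <;>
        simp [act4, Fin.sum_univ_four, hneg v hv, hneg w' hw'U, hyτ, sub_eq_add_neg, add_comm]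
  · have DR : C.Datum R (fun _ : Fin 1 => y) (Matrix.diagonal fun _ => (-1 : F)) := by
      have htv : ∀ j, C.tv (fun _ : Fin 1 => y) (Matrix.diagonal fun _ => (-1 : F)) j =
          C.g y + y := fun j => by
        simp [tv, Fin.eq_zero j, Matrix.diagonal_apply]
      refine ⟨fun _ => hy, ?_, fun _ _ => C.alt y, by rw [hR2, Fintype.card_fin],
        fun i j => by rw [htv, htv, C.alt], fun c hc => ?_⟩
      · exact (linearIndependent_unique_iff (v := fun _ : Fin 1 => y)).2
          (by simpa using hli.ne_zero 0)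
      · simp only [htv, Fin.sum_univ_one] at hc ⊢
        obtain ⟨s, hs⟩ := (Submodule.mem_span_range_iff_exists_fun F).1 hc
        rw [Fin.sum_univ_one] at hs
        obtain ⟨-, h⟩ := LinearIndependent.pair_iff.1 hli (c 0 - s 0) (c 0) (by
          rw [sub_smul]
          linear_combination (norm := module) -hs)
        rw [h, zero_smul]
    have D := DU.sum hU orth_inf hsU hRs DR
    rw [hsup] at D
    refine C.commOn_of_datum hM hS D ?_
    rw [Matrix.fromBlocks_diagonal]
    convert goodBlock_two_refl (ι := (Fin (f + 1) ⊕ Fin f) ⊕ Fin 1) hq3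
      (i₁ := Sum.inl (Sum.inl (Fin.last f))) (i₂ := Sum.inr 0) (by simp) (by simp; omega) using 2
    funext i
    rcases i with i | i
    · simp
    · simp [Fin.eq_zero i]

end Ctx

end Cfsg.Agent.Lib.SpCommutator
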