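import Cfsg.Agent.Lib.SpCommutator.PairDatum

/-!
# A normal form when `-g` is unipotent of odd length (helper52)
-/

set_option autoImplicit false

namespace Cfsg.Agent.Lib.SpCommutator

open Module Polynomial

universe u

variable {F : Type u} [Field F] {V : Type u} [AddCommGroup V] [Module F V] [FiniteDimensional F V]

namespace Ctx

variable (C : Ctx F V) {f : ℕ}

/-- The hypotheses of the exceptional case on the whole space. -/
structure BadTop (f : ℕ) : Prop where
  two : (2 : F) ≠ 0
  dim : finrank F V = 2 * (2 * f + 1)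
  kill : ∀ x, (C.NN (-1) ^ (2 * f + 1)) x = 0
  top : ∀ x, C.B x ((C.NN (-1) ^ (2 * f)) x) = 0
  ex : ∃ v y, C.B v ((C.NN (-1) ^ (2 * f)) y) ≠ 0

/-- The span of the triangular family of one vector. -/
noncomputable def TTspan (x : V) : Submodule F V :=
  Submodule.span F (Set.range fun j => C.TT (-1) j x)

omit [FiniteDimensional F V] in
lemma stable_TTspan (x : V) : C.Stable (C.TTspan x) := by
  intro z hz
  show C.gl z ∈ _
  rw [TTspan] at hz ⊢
  induction hz using Submodule.span_induction with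
  | mem z hz =>
    obtain ⟨j, rfl⟩ := hz
    have hmem : ∀ j, C.TT (-1) j x ∈ Submodule.span F (Set.range fun j => C.TT (-1) j x) :=
      fun j => Submodule.subset_span ⟨j, rfl⟩
    show C.gl (C.TT (-1) j x) ∈ _
    rw [C.gl_eq (-1), LinearMap.add_apply]
    refine add_mem ?_ (Submodule.smul_mem _ _ (hmem j))
    obtain ⟨i, rfl | rfl⟩ := j.even_or_odd'
    · rw [NN_TT_even]; exact hmem _
    · rw [NN_TT_odd]; exact add_mem (Submodule.smul_mem _ _ (hmem _)) (hmem _)
  | zero => simp
  | add a b _ _ ha hb => rw [map_add]; exact add_mem ha hb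
  | smul c a _ ha => rw [map_smul]; exact Submodule.smul_mem _ _ ha

omit [FiniteDimensional F V] in
lemma self_mem_TTspan (x : V) : x ∈ C.TTspan x := Submodule.subset_span ⟨0, rfl⟩

omit [FiniteDimensional F V] in
lemma iso_TTspan {x : V} (h : ∀ j, C.B x (C.TT (-1) j x) = 0) {z : V} (hz : z ∈ C.TTspan x) :
    C.B x z = 0 := by
  rw [TTspan] at hz
  induction hz using Submodule.span_induction with
  | mem z hz => obtain ⟨j, rfl⟩ := hz; exact h j
  | zero => simp
  | add a b _ _ ha hb => simp [ha, hb]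
  | smul c a _ ha => simp [ha]

lemma TT_mem_TTspan {x z : V} (hz : z ∈ C.TTspan x) (j : ℕ) : C.TT (-1) j z ∈ C.TTspan x := by
  rw [TT_apply, ← aeval_X_pow (R := F) C.gi,
    show C.NN (-1) ^ j = aeval C.gl ((X - Polynomial.C (-1 : F)) ^ j) by rw [map_pow, ← C.NN_eq]]
  exact (C.stable_TTspan x).aeval_gi_mem _ ((C.stable_TTspan x).aeval_mem _ hz)

variable {C}

omit [FiniteDimensional F V] in
lemma BadTop.hl (_H : C.BadTop f) : (-1 : F) * -1 = 1 := by ring

omit [FiniteDimensional F V] in
lemma BadTop.par (_H : C.BadTop f) : (-1 : F) ^ (2 * f + 1 - 1) = 1 := by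
  rw [show 2 * f + 1 - 1 = 2 * f by omega, pow_mul, neg_one_sq, one_pow]

omit [FiniteDimensional F V] in
lemma BadTop.adj (H : C.BadTop f) (x y : V) :
    C.B ((C.NN (-1) ^ (2 * f)) x) y = C.B x ((C.NN (-1) ^ (2 * f)) y) := by
  have := C.adj_NN_top H.hl (e := 2 * f + 1) (by omega) H.par x (H.kill y)
  simpa using this

omit [FiniteDimensional F V] in
/-- Odd triangular operators are symmetric modulo their radical. -/
lemma odd_symm (k : ℕ) {z : V} (hz : C.NN (-1) (C.TT (-1 : F) (2 * k + 1) z) = 0) (u : V) :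
    C.B z (C.TT (-1 : F) (2 * k + 1) u) = C.B u (C.TT (-1 : F) (2 * k + 1) z) := by
  have hl : (-1 : F) * -1 = 1 := by ring
  have hfac : aeval C.gi (X - Polynomial.C (-1 : F)) = C.gi * C.NN (-1) := by
    rw [map_sub, aeval_X, aeval_C, Algebra.algebraMap_eq_smul_one, NN, mul_sub, C.gi_gl,
      mul_smul_comm, mul_one]
    module
  have hg : C.gi (C.TT (-1 : F) (2 * k + 1) z) = -C.TT (-1 : F) (2 * k + 1) z := by
    set T := C.TT (-1 : F) (2 * k + 1) z
    have h1 : C.gl T = -T := by simpa [NN, eq_neg_iff_add_eq_zero] using hz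
    have h2 : C.gi (C.gl T) = T := C.g.symm_apply_apply T
    rw [h1, map_neg] at h2
    exact neg_eq_iff_eq_neg.1 h2
  have hc : Commute (C.NN (-1)) (C.ZZ (-1) ^ k) := by
    rw [← C.TT_even hl k, TT]
    exact ((C.comm_gi_NN (-1)).pow_left _).symm.mul_right ((Commute.refl _).pow_right _)
  rw [TT_odd, C.TT_even hl, Module.End.mul_apply, ← C.adj_ZZ_pow, C.symm,
    ← pow_one (C.NN (-1)), C.adj_NN_pow, pow_one, pow_one, hfac, Module.End.mul_apply,
    ← Module.End.mul_apply (C.NN (-1)) (C.ZZ (-1) ^ k), hc.eq, ← C.TT_even hl, ← C.TT_odd, hg]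
  simp [TT_odd, C.TT_even hl]

lemma BadTop.exists_iso [Finite F] (H : C.BadTop f) {x y : V}
    (hxy : C.B x ((C.NN (-1) ^ (2 * f)) y) ≠ 0) :
    ∃ c : Fin f → F, ∀ j,
      C.B (x + ∑ i : Fin f, c i • C.TT (-1 : F) (2 * (i : ℕ) + 1) y)
        (C.TT (-1 : F) j (x + ∑ i : Fin f, c i • C.TT (-1 : F) (2 * (i : ℕ) + 1) y)) = 0 := by
  set φ : (Fin f → F) → V := fun c => ∑ i : Fin f, c i • C.TT (-1 : F) (2 * (i : ℕ) + 1) y
    with hφ
  let d : (Fin f → F) → (Fin f → F) := fun c k =>
    C.B (x + φ c) (C.TT (-1 : F) (2 * (k : ℕ) + 1) (x + φ c))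
  have hinj : Function.Injective d := by
    intro a b hab
    suffices h : ∀ i (hi : i < f), a ⟨i, hi⟩ = b ⟨i, hi⟩ from funext fun i => h i i.2
    intro i
    induction i using Nat.strong_induction_on with
    | h i ih =>
      intro hi
      have h := congrFun hab ⟨f - 1 - i, by omega⟩
      simp only [d] at h
      set k := f - 1 - i with hk
      set T := C.TT (-1 : F) (2 * k + 1) with hT
      set Δ := φ a - φ b with hΔ
      set top := (C.NN (-1) ^ (2 * f)) y with htop
      have hTΔ : T Δ = ((a ⟨i, hi⟩ - b ⟨i, hi⟩) * (-1) ^ (f - 1)) • top := by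
        rw [hΔ, hφ]
        simp only [← Finset.sum_sub_distrib, ← sub_smul, map_sum, map_smul, hT, TT_TT]
        rw [Finset.sum_eq_single ⟨i, hi⟩]
        · simp only [show (2 * k + 1) / 2 + (2 * i + 1) / 2 = f - 1 by omega,
            show 2 * k + 1 + (2 * i + 1) = 2 * f by omega]
          have hg := C.gi_pow_top H.hl (e := 2 * f + 1) (by omega) (H.kill y) (f - 1)
          rw [show 2 * f + 1 - 1 = 2 * f by omega] at hg
          rw [hg, smul_smul]
        · intro j _ hj
          rcases lt_or_gt_of_ne (fun h : (j : ℕ) = i => hj (Fin.ext h)) with h' | h'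
          · rw [show a j = b j from ih j h' j.2, sub_self, zero_smul]
          · rw [C.NN_pow_eq_zero (H.kill y) (by omega), map_zero, smul_zero]
        · intro h; exact absurd (Finset.mem_univ _) h
      have hNT : C.NN (-1) (T Δ) = 0 := by
        rw [hTΔ, map_smul, htop, ← Module.End.mul_apply, ← pow_succ', H.kill, smul_zero]
      have hz : ∀ c : Fin f → F, C.B (φ c) top = 0 := by
        intro c
        rw [hφ, map_sum, LinearMap.sum_apply]
        refine Finset.sum_eq_zero fun j _ => ?_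
        rw [map_smul, LinearMap.smul_apply, htop, ← H.adj, NN_pow_TT,
          C.NN_pow_eq_zero (H.kill y) (by omega), map_zero, map_zero, LinearMap.zero_apply,
          smul_zero]
      have hdiff : C.B (x + φ a) (T (x + φ a)) - C.B (x + φ b) (T (x + φ b)) =
          C.B (x + φ a) (T Δ) + C.B Δ (T (x + φ b)) := by
        simp only [hΔ, map_add, map_sub, LinearMap.add_apply, LinearMap.sub_apply]
        ring
      rw [h, sub_self] at hdiff
      rw [odd_symm k hNT, hTΔ, map_smul, map_smul, smul_eq_mul, smul_eq_mul, map_add, map_add,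
        LinearMap.add_apply, LinearMap.add_apply, hz, hz, add_zero] at hdiff
      have : ((a ⟨i, hi⟩ - b ⟨i, hi⟩) * (-1) ^ (f - 1) * C.B x top) * 2 = 0 := by
        linear_combination -hdiff
      rcases mul_eq_zero.1 this with h' | h'
      · rcases mul_eq_zero.1 h' with h'' | h''
        · rcases mul_eq_zero.1 h'' with h3 | h3
          · exact sub_eq_zero.1 h3
          · exact absurd h3 (pow_ne_zero _ (neg_ne_zero.2 one_ne_zero))
        · exact absurd h'' hxy
      · exact absurd h' H.two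
  obtain ⟨c, hc⟩ := (Finite.injective_iff_surjective.1 hinj) 0
  refine ⟨c, fun j => ?_⟩
  obtain ⟨i, rfl | rfl⟩ := j.even_or_odd'
  · rw [C.TT_even H.hl, C.B_ZZ_pow]
  · by_cases hi : i < f
    · exact congrFun hc ⟨i, hi⟩
    · rw [C.TT_eq_zero (H.kill _) (by omega), map_zero]

/-- The normal form. -/
structure IsNormal (C : Ctx F V) (f : ℕ) (v w : V) : Prop where
  pair : C.IsPair (-1) (2 * f + 1) v w
  isov : ∀ z ∈ C.TTspan v, C.B v z = 0
  isow : ∀ z ∈ C.TTspan w, C.B w z = 0
  symm : ∀ r : F[X], C.B v (aeval C.gl r w) = C.B v (aeval C.gi r w)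

theorem BadTop.exists_normal [Finite F] (H : C.BadTop f) : ∃ v w, C.IsNormal f v w := by
  obtain ⟨v0, y0, h0⟩ := H.ex
  obtain ⟨c, hc⟩ := H.exists_iso h0
  set v := v0 + ∑ i : Fin f, c i • C.TT (-1 : F) (2 * (i : ℕ) + 1) y0 with hv
  have hv0 : C.B v ((C.NN (-1) ^ (2 * f)) y0) ≠ 0 := by
    rw [hv, map_add, LinearMap.add_apply, map_sum, LinearMap.sum_apply,
      Finset.sum_eq_zero, add_zero]
    · exact h0
    · intro j _
      rw [map_smul, LinearMap.smul_apply, ← H.adj, NN_pow_TT,
        C.NN_pow_eq_zero (H.kill y0) (by omega), map_zero, map_zero, LinearMap.zero_apply,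
        smul_zero]
  clear_value v
  set t : ℕ → F := fun j => if j = 2 * f then 1 else if j + 1 = 2 * f then 2⁻¹ else 0 with ht
  obtain ⟨a, ha⟩ := C.exists_w (v := v) H.hl (e := 2 * f + 1) (by omega) (H.kill y0)
    (by simpa using hv0) t
  set w0 := ∑ i, a i • C.TT (-1 : F) (i : ℕ) y0 with hw0
  have hw0t : ∀ j, C.B v (C.TT (-1 : F) j w0) = t j := by
    intro j
    by_cases hj : j < 2 * f + 1
    · exact ha j hj
    · rw [C.TT_eq_zero (H.kill _) (by omega), map_zero, ht]
      simp only [show j ≠ 2 * f by omega, show j + 1 ≠ 2 * f by omega, if_false]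
  have hwv : C.B w0 ((C.NN (-1) ^ (2 * f)) v) ≠ 0 := by
    rw [C.symm, H.adj, neg_ne_zero]
    intro h
    have h2 := hw0t (2 * f)
    have h3 := C.TT_top H.hl (e := 2 * f + 1) (by omega) (H.kill w0)
    rw [show 2 * f + 1 - 1 = 2 * f by omega] at h3
    rw [h3, map_smul, h, smul_zero, ht] at h2
    simp at h2
  obtain ⟨b, hb⟩ := H.exists_iso hwv
  set w := w0 + ∑ i : Fin f, b i • C.TT (-1 : F) (2 * (i : ℕ) + 1) v with hw
  have hwt : ∀ j, C.B v (C.TT (-1 : F) j w) = t j := by
    intro j
    rw [hw, map_add, map_add, hw0t, add_eq_left]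
    refine iso_TTspan C hc ?_
    exact C.TT_mem_TTspan ((C.TTspan v).sum_mem fun i _ => (C.TTspan v).smul_mem _
      (Submodule.subset_span ⟨_, rfl⟩)) j
  refine ⟨v, w, ⟨H.hl, by omega, H.par, H.kill v, H.kill w, ?_, ?_, ?_⟩,
    fun z hz => C.iso_TTspan hc hz, fun z hz => C.iso_TTspan hb hz, ?_⟩
  · simpa using H.top v
  · simpa using H.top w
  · intro h
    have h2 := hwt (2 * f)
    have h3 := C.TT_top H.hl (e := 2 * f + 1) (by omega) (H.kill w)
    rw [show 2 * f + 1 - 1 = 2 * f by omega] at h3 h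
    rw [h3, map_smul, h, smul_zero, ht] at h2
    simp at h2
  have key : ∀ (n : ℕ) (i : ℕ),
      C.B v ((C.gl ^ n - C.gi ^ n) ((C.ZZ (-1) ^ i) w)) = 0 := by
    intro n
    induction n using Nat.twoStepInduction with
    | zero => simp
    | one =>
      intro i
      have hD : (C.gl ^ 1 - C.gi ^ 1 : Module.End F V) = (2 : F) • C.NN (-1) - C.ZZ (-1) := by
        simp only [pow_one, NN, ZZ, SS]
        module
      rw [hD, LinearMap.sub_apply, LinearMap.smul_apply, ← C.TT_even H.hl, C.NN_TT_even,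
        C.ZZ_TT H.hl, map_sub, map_smul, hwt, hwt, smul_eq_mul, ht]
      have h2 := H.two
      simp only [show ¬ (2 * i + 1 = 2 * f) by omega, if_false,
        show ¬ (2 * i + 2 + 1 = 2 * f) by omega]
      by_cases hi : 2 * i + 2 = 2 * f
      · rw [if_pos hi, if_pos (by omega), mul_inv_cancel₀ h2, sub_self]
      · rw [if_neg hi, if_neg (by omega), mul_zero, sub_zero]
    | more n h1 h2 =>
      intro i
      have hrec : C.gl ^ (n + 2) - C.gi ^ (n + 2) =
          (C.gl ^ (n + 1) - C.gi ^ (n + 1)) * C.SS - (C.gl ^ n - C.gi ^ n) := by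
        have e1 : C.gl ^ (n + 1) * C.gl = C.gl ^ (n + 2) := (pow_succ _ _).symm
        have e2 : C.gl ^ (n + 1) * C.gi = C.gl ^ n := by
          rw [pow_succ, mul_assoc, C.gl_gi, mul_one]
        have e3 : C.gi ^ (n + 1) * C.gl = C.gi ^ n := by
          rw [pow_succ, mul_assoc, C.gi_gl, mul_one]
        have e4 : C.gi ^ (n + 1) * C.gi = C.gi ^ (n + 2) := (pow_succ _ _).symm
        rw [SS, sub_mul, mul_add, mul_add, e1, e2, e3, e4]
        abel
      have hS : C.SS ((C.ZZ (-1) ^ i) w) =
          (C.ZZ (-1) ^ (i + 1)) w - (2 : F) • (C.ZZ (-1) ^ i) w := by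
        rw [pow_succ', Module.End.mul_apply]
        simp [ZZ]
      rw [hrec, LinearMap.sub_apply, Module.End.mul_apply, hS, map_sub, map_sub, map_smul,
        map_sub, map_smul, h2, h2, h1]
      simp
  intro r
  rw [← sub_eq_zero, ← map_sub, ← LinearMap.sub_apply]
  induction r using Polynomial.induction_on' with
  | add p q hp hq =>
    simp only [map_add, LinearMap.sub_apply, map_sub, LinearMap.add_apply] at hp hq ⊢
    linear_combination hp + hq
  | monomial n c =>
    have := key n 0
    rw [pow_zero, Module.End.one_apply] at this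
    rw [aeval_monomial, aeval_monomial, ← mul_sub, Module.End.mul_apply,
      Module.algebraMap_end_apply, map_smul, this, smul_zero]

end Ctx

end Cfsg.Agent.Lib.SpCommutator
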