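import Cfsg.Agent.Lib.SpCommutator.Split

/-!
# The exceptional primary pairs (helper52)
-/

set_option autoImplicit false

namespace Cfsg.Agent.Lib.SpCommutator

open Module Polynomial

universe u

variable {F : Type u} [Field F] {V : Type u} [AddCommGroup V] [Module F V] [FiniteDimensional F V]

namespace Ctx

variable (C : Ctx F V) {l : F} {e : ℕ}

/-- The triangular family. -/
noncomputable def TT (l : F) (j : ℕ) : Module.End F V := C.gi ^ (j / 2) * C.NN l ^ j

/-- `g + g⁻¹ - 2 l`. -/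
noncomputable def ZZ (l : F) : Module.End F V := C.SS - (2 * l) • 1

omit [FiniteDimensional F V]

lemma comm_gi_NN (l : F) : Commute C.gi (C.NN l) :=
  C.comm_gl_gi.symm.sub_right ((Commute.one_right _).smul_right l)

lemma gl_eq (l : F) : C.gl = C.NN l + l • 1 := by simp [NN]

lemma NN_pow_eq_zero {x : V} (hx : (C.NN l ^ e) x = 0) {k : ℕ} (hk : e ≤ k) :
    (C.NN l ^ k) x = 0 := by
  rw [← Nat.sub_add_cancel hk, pow_add, Module.End.mul_apply, hx, map_zero]

lemma TT_apply (l : F) (j : ℕ) (x : V) : C.TT l j x = (C.gi ^ (j / 2)) ((C.NN l ^ j) x) := rfl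

lemma TT_zero (l : F) (x : V) : C.TT l 0 x = x := rfl

lemma TT_eq_zero {x : V} (hx : (C.NN l ^ e) x = 0) {j : ℕ} (hj : e ≤ j) : C.TT l j x = 0 := by
  rw [TT_apply, C.NN_pow_eq_zero hx hj, map_zero]

lemma NN_pow_TT (l : F) (k j : ℕ) (x : V) :
    (C.NN l ^ k) (C.TT l j x) = (C.gi ^ (j / 2)) ((C.NN l ^ (k + j)) x) := by
  rw [TT_apply, ← Module.End.mul_apply, ← ((C.comm_gi_NN l).pow_pow (j / 2) k).eq,
    Module.End.mul_apply, pow_add (C.NN l) k j, Module.End.mul_apply]

lemma TT_TT (l : F) (k j : ℕ) (x : V) :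
    C.TT l k (C.TT l j x) = (C.gi ^ (k / 2 + j / 2)) ((C.NN l ^ (k + j)) x) := by
  rw [TT_apply, NN_pow_TT, ← Module.End.mul_apply, ← pow_add]

lemma gi_pow_top (hl : l * l = 1) (he : 1 ≤ e) {x : V} (hx : (C.NN l ^ e) x = 0) (k : ℕ) :
    (C.gi ^ k) ((C.NN l ^ (e - 1)) x) = l ^ k • (C.NN l ^ (e - 1)) x := by
  set z := (C.NN l ^ (e - 1)) x with hz
  have hN : C.NN l z = 0 := by
    rw [hz, ← Module.End.mul_apply, ← pow_succ', Nat.sub_add_cancel he, hx]
  have hg : C.gi z = l • z := by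
    have h1 : C.gl z = l • z := by simpa [NN, sub_eq_zero] using hN
    have h2 : C.gi (C.gl z) = z := C.g.symm_apply_apply z
    rw [h1, map_smul] at h2
    have h3 := congrArg (l • ·) h2
    simpa [smul_smul, hl] using h3
  induction k with
  | zero => simp
  | succ k ih => rw [pow_succ, Module.End.mul_apply, hg, map_smul, ih, smul_smul, pow_succ']

lemma TT_top (hl : l * l = 1) (he : 1 ≤ e) {x : V} (hx : (C.NN l ^ e) x = 0) :
    C.TT l (e - 1) x = l ^ ((e - 1) / 2) • (C.NN l ^ (e - 1)) x :=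
  C.gi_pow_top hl he hx _

lemma TT_even (hl : l * l = 1) (i : ℕ) : C.TT l (2 * i) = C.ZZ l ^ i := by
  have h : C.gi * C.NN l ^ 2 = C.ZZ l := by
    rw [pow_two, NN, ZZ, SS, ← mul_assoc, mul_sub C.gi, C.gi_gl, mul_smul_comm, mul_one, sub_mul,
      one_mul, smul_mul_assoc, mul_sub C.gi, C.gi_gl, mul_smul_comm, mul_one, smul_sub, smul_smul,
      hl, one_smul, two_mul, add_smul]
    abel
  rw [TT, show 2 * i / 2 = i by omega, pow_mul, ← h, ((C.comm_gi_NN l).pow_right 2).mul_pow]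

lemma TT_odd (i : ℕ) : C.TT l (2 * i + 1) = C.TT l (2 * i) * C.NN l := by
  rw [TT, TT, show (2 * i + 1) / 2 = i by omega, show 2 * i / 2 = i by omega, pow_succ, mul_assoc]

lemma NN_TT_even (l : F) (i : ℕ) (x : V) : C.NN l (C.TT l (2 * i) x) = C.TT l (2 * i + 1) x := by
  have := C.NN_pow_TT l 1 (2 * i) x
  rw [pow_one] at this
  rw [this, TT_apply, show (2 * i + 1) / 2 = 2 * i / 2 by omega, add_comm]

lemma NN_TT_odd (l : F) (i : ℕ) (x : V) : C.NN l (C.TT l (2 * i + 1) x) =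
    l • C.TT l (2 * i + 2) x + C.TT l (2 * i + 3) x := by
  have h1 : C.NN l (C.TT l (2 * i + 1) x) = C.gl (C.TT l (2 * i + 2) x) := by
    have := C.NN_pow_TT l 1 (2 * i + 1) x
    rw [pow_one] at this
    rw [this, TT_apply, show (2 * i + 1) / 2 = i by omega, show (2 * i + 2) / 2 = i + 1 by omega,
      pow_succ', Module.End.mul_apply, show 1 + (2 * i + 1) = 2 * i + 2 by ring]
    exact (C.g.apply_symm_apply _).symm
  rw [h1, show 2 * i + 3 = 2 * (i + 1) + 1 by ring, show 2 * i + 2 = 2 * (i + 1) by ring,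
    ← C.NN_TT_even l (i + 1) x, gl_eq C l, add_comm]
  rfl

lemma ZZ_TT (hl : l * l = 1) (j : ℕ) (x : V) : C.ZZ l (C.TT l j x) = C.TT l (j + 2) x := by
  have h2 : C.ZZ l = C.TT l 2 := by
    have := C.TT_even hl 1
    rw [pow_one] at this
    exact this.symm
  rw [h2, TT_TT, TT_apply, show (j + 2) / 2 = 2 / 2 + j / 2 by omega, add_comm j 2]

lemma adj_ZZ (x y : V) : C.B (C.ZZ l x) y = C.B x (C.ZZ l y) := by
  simp [ZZ, C.adj_SS]

lemma adj_ZZ_pow (n : ℕ) (x y : V) : C.B ((C.ZZ l ^ n) x) y = C.B x ((C.ZZ l ^ n) y) := by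
  induction n generalizing x y with
  | zero => rfl
  | succ n ih =>
    rw [pow_succ, Module.End.mul_apply, ih, C.adj_ZZ, ← Module.End.mul_apply,
      ← pow_succ', pow_succ]

lemma B_ZZ_pow (n : ℕ) (x : V) : C.B x ((C.ZZ l ^ n) x) = 0 := by
  obtain ⟨k, rfl | rfl⟩ := n.even_or_odd'
  · rw [two_mul, pow_add, Module.End.mul_apply, ← C.adj_ZZ_pow, C.alt]
  · rw [show 2 * k + 1 = k + (1 + k) by ring, pow_add, pow_add, pow_one, Module.End.mul_apply,
      ← C.adj_ZZ_pow, Module.End.mul_apply]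
    generalize (C.ZZ l ^ k) x = z
    simp only [ZZ, LinearMap.sub_apply, LinearMap.smul_apply, Module.End.one_apply, map_sub,
      map_smul, C.alt, smul_zero, sub_zero]
    have := C.B_SS_pow 1 z
    rwa [pow_one] at this

lemma adj_NN_pow (k : ℕ) (x y : V) :
    C.B ((C.NN l ^ k) x) y = C.B x (aeval C.gi ((X - Polynomial.C l) ^ k) y) := by
  rw [← C.adj_aeval, map_pow, ← C.NN_eq]

lemma adj_NN_top (hl : l * l = 1) (he : 1 ≤ e) (hpar : (-1 : F) ^ (e - 1) = 1) (x : V) {y : V}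
    (hy : (C.NN l ^ e) y = 0) :
    C.B ((C.NN l ^ (e - 1)) x) y = C.B x ((C.NN l ^ (e - 1)) y) := by
  have hfac : aeval C.gi (X - Polynomial.C l) = (-l) • (C.gi * C.NN l) := by
    rw [map_sub, aeval_X, aeval_C, Algebra.algebraMap_eq_smul_one, NN, mul_sub, C.gi_gl,
      mul_smul_comm, mul_one, smul_sub, smul_smul, neg_mul, hl]
    module
  rw [adj_NN_pow, map_pow, hfac, _root_.smul_pow, LinearMap.smul_apply,
    (C.comm_gi_NN l).mul_pow, Module.End.mul_apply, C.gi_pow_top hl he hy, smul_smul, ← mul_pow,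
    neg_mul, hl, hpar, one_smul]

lemma NN_pow_sum {k n : ℕ} (hkn : e ≤ k + n) {i : ℕ} (hi : i < e) {x : V}
    (hx : (C.NN l ^ e) x = 0) {a : ℕ → F} (ha : ∀ j < i, a j = 0) (hin : n = i + 1) :
    (C.NN l ^ k) (∑ j : Fin e, a j • C.TT l j x) = a i • (C.NN l ^ k) (C.TT l i x) := by
  rw [map_sum, Finset.sum_eq_single ⟨i, hi⟩]
  · rw [map_smul]
  · intro j _ hj
    rcases lt_or_gt_of_ne (fun h : (j : ℕ) = i => hj (Fin.ext h)) with h | h
    · rw [ha _ h, zero_smul, map_zero]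
    · rw [map_smul, NN_pow_TT, C.NN_pow_eq_zero hx (by omega), map_zero, smul_zero]
  · intro h; exact absurd (Finset.mem_univ _) h

/-- A pair of the exceptional kind. -/
structure IsPair (l : F) (e : ℕ) (v w : V) : Prop where
  hl : l * l = 1
  he : 1 ≤ e
  par : (-1 : F) ^ (e - 1) = 1
  kv : (C.NN l ^ e) v = 0
  kw : (C.NN l ^ e) w = 0
  topv : C.B v ((C.NN l ^ (e - 1)) v) = 0
  topw : C.B w ((C.NN l ^ (e - 1)) w) = 0
  ne : C.B v ((C.NN l ^ (e - 1)) w) ≠ 0

/-- The subspace of a pair. -/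
noncomputable def pairU (l : F) (e : ℕ) (v w : V) : Submodule F V :=
  Submodule.span F (Set.range
    (Sum.elim (fun i : Fin e => C.TT l i v) (fun i : Fin e => C.TT l i w)))

variable {v w : V}

lemma TT_mem_pairU_left (kv : (C.NN l ^ e) v = 0) (j : ℕ) : C.TT l j v ∈ C.pairU l e v w := by
  by_cases hj : j < e
  · exact Submodule.subset_span ⟨Sum.inl ⟨j, hj⟩, rfl⟩
  · rw [C.TT_eq_zero kv (by omega)]; exact Submodule.zero_mem _

lemma TT_mem_pairU_right (kw : (C.NN l ^ e) w = 0) (j : ℕ) : C.TT l j w ∈ C.pairU l e v w := by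
  by_cases hj : j < e
  · exact Submodule.subset_span ⟨Sum.inr ⟨j, hj⟩, rfl⟩
  · rw [C.TT_eq_zero kw (by omega)]; exact Submodule.zero_mem _

lemma IsPair.stable {C : Ctx F V} (P : C.IsPair l e v w) : C.Stable (C.pairU l e v w) := by
  intro x hx
  show C.gl x ∈ _
  have hN : ∀ (z : V), (∀ j, C.TT l j z ∈ C.pairU l e v w) → ∀ j,
      C.gl (C.TT l j z) ∈ C.pairU l e v w := by
    intro z hz j
    rw [C.gl_eq l, LinearMap.add_apply]
    refine add_mem ?_ ((C.pairU l e v w).smul_mem _ (hz j))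
    obtain ⟨i, rfl | rfl⟩ := j.even_or_odd'
    · rw [NN_TT_even]; exact hz _
    · rw [NN_TT_odd]; exact add_mem ((C.pairU l e v w).smul_mem _ (hz _)) (hz _)
  rw [pairU] at hx
  induction hx using Submodule.span_induction with
  | mem z hz =>
    obtain ⟨i | i, rfl⟩ := hz
    · exact hN v (C.TT_mem_pairU_left P.kv) i
    · exact hN w (C.TT_mem_pairU_right P.kw) i
  | zero => simp
  | add a b _ _ ha hb => rw [map_add]; exact add_mem ha hb
  | smul c a _ ha => rw [map_smul]; exact Submodule.smul_mem _ _ ha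

lemma IsPair.coef [FiniteDimensional F V] {C : Ctx F V} (P : C.IsPair l e v w) (a b : ℕ → F)
    (h : ∀ u ∈ C.pairU l e v w, C.B u
      ((∑ j : Fin e, a j • C.TT l j v) + ∑ j : Fin e, b j • C.TT l j w) = 0) :
    ∀ i < e, a i = 0 ∧ b i = 0 := by
  intro i
  induction i using Nat.strong_induction_on with
  | h i ih =>
    intro hi
    set U := C.pairU l e v w with hU
    set z := (∑ j : Fin e, a j • C.TT l j v) + ∑ j : Fin e, b j • C.TT l j w with hz
    have hk : (C.NN l ^ (e - 1 - i)) z = (a i * l ^ (i / 2)) • (C.NN l ^ (e - 1)) v +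
        (b i * l ^ (i / 2)) • (C.NN l ^ (e - 1)) w := by
      rw [hz, map_add, C.NN_pow_sum (n := i + 1) (by omega) hi P.kv
        (fun j hj => (ih j hj (by omega)).1) rfl,
        C.NN_pow_sum (n := i + 1) (by omega) hi P.kw (fun j hj => (ih j hj (by omega)).2) rfl,
        NN_pow_TT, NN_pow_TT, show e - 1 - i + i = e - 1 by omega,
        C.gi_pow_top P.hl P.he P.kv, C.gi_pow_top P.hl P.he P.kw, smul_smul, smul_smul]
    have h0 : ∀ u ∈ U, C.B u ((C.NN l ^ (e - 1 - i)) z) = 0 := by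
      intro u hu
      rw [C.symm, C.adj_NN_pow, C.symm, neg_neg]
      exact h _ (P.stable.aeval_gi_mem _ hu)
    have hv := h0 v (C.TT_mem_pairU_left P.kv 0)
    have hw := h0 w (C.TT_mem_pairU_right P.kw 0)
    rw [hk, map_add, map_smul, map_smul, P.topv, smul_zero, zero_add, smul_eq_mul] at hv
    rw [hk, map_add, map_smul, map_smul, P.topw, smul_zero, add_zero, smul_eq_mul,
      ← C.adj_NN_top P.hl P.he P.par w P.kv, C.symm, mul_neg, neg_eq_zero] at hw
    have hlu : l ^ (i / 2) ≠ 0 := pow_ne_zero _ fun h => by simpa [h] using P.hl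
    refine ⟨?_, ?_⟩
    · exact (mul_eq_zero.1 ((mul_eq_zero.1 hw).resolve_right P.ne)).resolve_right hlu
    · exact (mul_eq_zero.1 ((mul_eq_zero.1 hv).resolve_right P.ne)).resolve_right hlu

lemma IsPair.indep [FiniteDimensional F V] {C : Ctx F V} (P : C.IsPair l e v w) :
    LinearIndependent F
      (Sum.elim (fun i : Fin e => C.TT l i v) (fun i : Fin e => C.TT l i w)) := by
  rw [Fintype.linearIndependent_iff]
  intro c hc
  rw [Fintype.sum_sum_type] at hc
  simp only [Sum.elim_inl, Sum.elim_inr] at hc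
  have h := P.coef (fun j => if hj : j < e then c (Sum.inl ⟨j, hj⟩) else 0)
    (fun j => if hj : j < e then c (Sum.inr ⟨j, hj⟩) else 0) fun u _ => by
      simp only [Fin.is_lt, dite_true, Fin.eta, hc, map_zero]
  rintro (⟨i, hi⟩ | ⟨i, hi⟩)
  · simpa [hi] using (h i hi).1
  · simpa [hi] using (h i hi).2

lemma IsPair.nondeg [FiniteDimensional F V] {C : Ctx F V} (P : C.IsPair l e v w) :
    C.Nondeg (C.pairU l e v w) := by
  intro z hz hperp
  obtain ⟨c, rfl⟩ := (Submodule.mem_span_range_iff_exists_fun F).1 hz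
  rw [Fintype.sum_sum_type] at hperp ⊢
  simp only [Sum.elim_inl, Sum.elim_inr] at hperp ⊢
  have h := P.coef (fun j => if hj : j < e then c (Sum.inl ⟨j, hj⟩) else 0)
    (fun j => if hj : j < e then c (Sum.inr ⟨j, hj⟩) else 0) fun u hu => by
      simp only [Fin.is_lt, dite_true, Fin.eta]
      rw [C.symm, hperp u hu, neg_zero]
  have h1 : ∀ i : Fin e, c (Sum.inl i) = 0 := fun ⟨i, hi⟩ => by simpa [hi] using (h i hi).1
  have h2 : ∀ i : Fin e, c (Sum.inr i) = 0 := fun ⟨i, hi⟩ => by simpa [hi] using (h i hi).2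
  simp [h1, h2]

lemma IsPair.finrank_pairU [FiniteDimensional F V] {C : Ctx F V} (P : C.IsPair l e v w) :
    finrank F (C.pairU l e v w) = 2 * e := by
  rw [pairU, finrank_span_eq_card P.indep, Fintype.card_sum, Fintype.card_fin, two_mul]

/-- The partner can be normalised. -/
lemma exists_w (hl : l * l = 1) (he : 1 ≤ e) {y : V} (ky : (C.NN l ^ e) y = 0)
    (hne : C.B v ((C.NN l ^ (e - 1)) y) ≠ 0) (t : ℕ → F) :
    ∃ c : Fin e → F, ∀ j < e, C.B v (C.TT l j (∑ i, c i • C.TT l i y)) = t j := by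
  let φ : (Fin e → F) →ₗ[F] (Fin e → F) := LinearMap.pi fun j =>
    ((C.B v).comp (C.TT l j)).comp (Fintype.linearCombination F (fun i : Fin e => C.TT l i y))
  have hφ : ∀ c j, φ c j = C.B v (C.TT l j (∑ i, c i • C.TT l i y)) := fun c j => by
    simp [φ, Fintype.linearCombination_apply]
  have hinj : Function.Injective φ := by
    rw [← LinearMap.ker_eq_bot, LinearMap.ker_eq_bot']
    intro c hc
    suffices h : ∀ i (hi : i < e), c ⟨i, hi⟩ = 0 from funext fun i => h i i.2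
    intro i
    induction i using Nat.strong_induction_on with
    | h i ih =>
      intro hi
      have h := congrFun hc ⟨e - 1 - i, by omega⟩
      rw [hφ, map_sum, map_sum, Finset.sum_eq_single ⟨i, hi⟩] at h
      · simp only [map_smul, TT_TT, smul_eq_mul] at h
        rw [show e - 1 - i + i = e - 1 by omega, C.gi_pow_top hl he ky, map_smul, smul_eq_mul] at h
        rcases mul_eq_zero.1 h with h | h
        · exact h
        · exact absurd ((mul_eq_zero.1 h).resolve_left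
            (pow_ne_zero _ fun h => by simpa [h] using hl)) hne
      · intro j _ hj
        rcases lt_or_gt_of_ne (fun h : (j : ℕ) = i => hj (Fin.ext h)) with h' | h'
        · rw [show c j = 0 from ih j h' j.2, zero_smul, map_zero, map_zero]
        · rw [map_smul, TT_TT, C.NN_pow_eq_zero ky (by simp; omega), map_zero, smul_zero, map_zero]
      · intro h; exact absurd (Finset.mem_univ _) h
  obtain ⟨c, hc⟩ := LinearMap.injective_iff_surjective.1 hinj fun j => t j
  exact ⟨c, fun j hj => by rw [← congrFun hc ⟨j, hj⟩, hφ]⟩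

lemma NN_pow_sum_TT {y : V} (ky : (C.NN l ^ e) y = 0) (c : Fin e → F) :
    (C.NN l ^ e) (∑ i, c i • C.TT l i y) = 0 := by
  rw [map_sum]
  refine Finset.sum_eq_zero fun i _ => ?_
  rw [map_smul, NN_pow_TT, C.NN_pow_eq_zero ky (by omega), map_zero, smul_zero]

lemma exists_pair [FiniteDimensional F V] {M : Submodule F V} (hS : C.Stable M)
    (hl : l * l = 1) (he : 1 ≤ e) (hpar : (-1 : F) ^ (e - 1) = 1) {y : V}
    (hvM : v ∈ M) (hyM : y ∈ M) (kv : (C.NN l ^ e) v = 0) (ky : (C.NN l ^ e) y = 0)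
    (hne : C.B ((C.NN l ^ (e - 1)) v) y ≠ 0)
    (H : ∀ x ∈ M, (C.NN l ^ e) x = 0 → C.B ((C.NN l ^ (e - 1)) x) x = 0) :
    ∃ w ∈ M, C.IsPair l e v w ∧
      ∀ j, C.B v (C.TT l j w) = if j = e - 1 then 1 else 0 := by
  rw [C.adj_NN_top hl he hpar v ky] at hne
  obtain ⟨c, hc⟩ := C.exists_w hl he ky hne fun j => if j = e - 1 then 1 else 0
  set w := ∑ i, c i • C.TT l i y with hw
  have kw : (C.NN l ^ e) w = 0 := C.NN_pow_sum_TT ky c
  have hwM : w ∈ M := by
    refine M.sum_mem fun i _ => M.smul_mem _ ?_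
    rw [TT_apply, ← aeval_X_pow (R := F) C.gi, show C.NN l ^ (i : ℕ) =
      aeval C.gl ((X - Polynomial.C l) ^ (i : ℕ)) by rw [map_pow, ← C.NN_eq]]
    exact hS.aeval_gi_mem _ (hS.aeval_mem _ hyM)
  have hall : ∀ j, C.B v (C.TT l j w) = if j = e - 1 then 1 else 0 := by
    intro j
    by_cases hj : j < e
    · exact hc j hj
    · rw [C.TT_eq_zero kw (by omega), map_zero, if_neg (by omega)]
  refine ⟨w, hwM, ⟨hl, he, hpar, kv, kw, ?_, ?_, fun h => ?_⟩, hall⟩
  · rw [C.symm, H v hvM kv, neg_zero]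
  · rw [C.symm, H w hwM kw, neg_zero]
  · have := hall (e - 1)
    rw [C.TT_top hl he kw, map_smul, h, smul_zero, if_pos rfl] at this
    exact one_ne_zero this.symm

end Ctx

end Cfsg.Agent.Lib.SpCommutator
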