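import Cfsg.Agent.Lib.SpCommutator.Pair

/-!
# Block data for the exceptional pairs (helper52)
-/

set_option autoImplicit false

namespace Cfsg.Agent.Lib.SpCommutator

open Module Polynomial

universe u

variable {F : Type u} [Field F] {V : Type u} [AddCommGroup V] [Module F V] [FiniteDimensional F V]

namespace Ctx

variable {C : Ctx F V} {l : F} {v w : V} {f : ℕ}

omit [FiniteDimensional F V] in
lemma span_iso {κ : Type} {e : κ → V} (h : ∀ i j, C.B (e i) (e j) = 0) :
    ∀ x ∈ Submodule.span F (Set.range e), ∀ y ∈ Submodule.span F (Set.range e), C.B x y = 0 := by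
  intro x hx y hy
  induction hx using Submodule.span_induction with
  | mem z hz =>
    obtain ⟨i, rfl⟩ := hz
    induction hy using Submodule.span_induction with
    | mem z hz => obtain ⟨j, rfl⟩ := hz; exact h i j
    | zero => simp
    | add a b _ _ ha hb => simp [ha, hb]
    | smul c a _ ha => simp [ha]
  | zero => simp
  | add a b _ _ ha hb => simp [ha, hb]
  | smul c a _ ha => simp [ha]

omit [FiniteDimensional F V] in
lemma span_SS {κ : Type} {e : κ → V} (hl : l * l = 1)
    (h : ∀ i, C.ZZ l (e i) ∈ Submodule.span F (Set.range e)) :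
    ∀ x ∈ Submodule.span F (Set.range e), C.SS x ∈ Submodule.span F (Set.range e) := by
  intro x hx
  have hx' : C.SS x = C.ZZ l x + (2 * l) • x := by simp [ZZ]
  rw [hx']
  refine add_mem ?_ (Submodule.smul_mem _ _ hx)
  clear hx'
  induction hx using Submodule.span_induction with
  | mem z hz => obtain ⟨i, rfl⟩ := hz; exact h i
  | zero => simp
  | add a b _ _ ha hb => rw [map_add]; exact add_mem ha hb
  | smul c a _ ha => rw [map_smul]; exact Submodule.smul_mem _ _ ha

omit [FiniteDimensional F V] in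
lemma perp_gl {W : Submodule F V} (hW : ∀ x ∈ W, ∀ y ∈ W, C.B x y = 0)
    (hS : ∀ x ∈ W, C.SS x ∈ W) {y : V} (hy : y ∈ W) (hgy : C.gl y ∈ W) :
    ∀ x ∈ W, C.B y x = 0 ∧ C.B y (C.gl x) = 0 := by
  intro x hx
  refine ⟨hW y hy x hx, ?_⟩
  have : C.gi y ∈ W := by
    have := W.sub_mem (hS y hy) hgy
    simpa [SS] using this
  rw [← C.adj_gi]
  exact hW _ this x hx

/-- The isotropic family, odd case. -/
noncomputable def oddE (C : Ctx F V) (l : F) (f : ℕ) (v w : V) : Fin (f + 1) ⊕ Fin f → V :=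
  Sum.elim (fun i => C.TT l (2 * (i : ℕ)) v) (fun i => C.TT l (2 * (i : ℕ) + 1) w)

/-- The isotropic family, even case. -/
noncomputable def evenE (C : Ctx F V) (l : F) (f : ℕ) (v w : V) : Fin f ⊕ Fin f → V :=
  Sum.elim (fun i => C.TT l (2 * (i : ℕ)) v) (fun i => C.TT l (2 * (i : ℕ)) w)

lemma oddE_indep (P : C.IsPair l (2 * f + 1) v w) : LinearIndependent F (C.oddE l f v w) := by
  have hσ : Function.Injective (Sum.map (fun i : Fin (f + 1) => (⟨2 * i, by omega⟩ : Fin (2 * f + 1)))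
      (fun i : Fin f => (⟨2 * i + 1, by omega⟩ : Fin (2 * f + 1)))) :=
    Function.Injective.sumMap (fun a b h => Fin.ext (by simpa using congrArg Fin.val h))
      (fun a b h => Fin.ext (by simpa using congrArg Fin.val h))
  convert P.indep.comp _ hσ using 1
  funext i; rcases i with i | i <;> rfl

omit [FiniteDimensional F V] in
lemma oddE_props (P : C.IsPair l (2 * f + 1) v w)
    (ht : ∀ j, C.B v (C.TT l j w) = if j = 2 * f then 1 else 0) :
    (∀ x ∈ Submodule.span F (Set.range (C.oddE l f v w)),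
      ∀ y ∈ Submodule.span F (Set.range (C.oddE l f v w)), C.B x y = 0) ∧
    (∀ x ∈ Submodule.span F (Set.range (C.oddE l f v w)),
      C.SS x ∈ Submodule.span F (Set.range (C.oddE l f v w))) ∧
    Submodule.span F (Set.range (C.oddE l f v w)) ≤ C.pairU l (2 * f + 1) v w := by
  refine ⟨span_iso ?_, span_SS P.hl ?_, Submodule.span_le.2 ?_⟩
  · have hvw : ∀ i j : ℕ, C.B (C.TT l (2 * i) v) (C.TT l (2 * j + 1) w) = 0 := by
      intro i j
      rw [C.TT_even P.hl, C.TT_odd, C.TT_even P.hl, C.adj_ZZ_pow, Module.End.mul_apply,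
        ← Module.End.mul_apply (C.ZZ l ^ i), ← pow_add, ← C.TT_even P.hl,
        ← Module.End.mul_apply, ← C.TT_odd, ht, if_neg (by omega)]
    rintro (i | i) (j | j)
    · show C.B (C.TT l (2 * (i : ℕ)) v) (C.TT l (2 * (j : ℕ)) v) = 0
      rw [C.TT_even P.hl, C.TT_even P.hl, C.adj_ZZ_pow, ← Module.End.mul_apply, ← pow_add,
        C.B_ZZ_pow]
    · exact hvw i j
    · show C.B (C.TT l (2 * (i : ℕ) + 1) w) (C.TT l (2 * (j : ℕ)) v) = 0
      rw [C.symm, hvw, neg_zero]
    · show C.B (C.TT l (2 * (i : ℕ) + 1) w) (C.TT l (2 * (j : ℕ) + 1) w) = 0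
      rw [C.TT_odd, C.TT_odd, C.TT_even P.hl, C.TT_even P.hl, Module.End.mul_apply,
        Module.End.mul_apply, C.adj_ZZ_pow, ← Module.End.mul_apply (C.ZZ l ^ _), ← pow_add,
        C.B_ZZ_pow]
  · rintro (i | i)
    · show C.ZZ l (C.TT l (2 * (i : ℕ)) v) ∈ _
      rw [C.ZZ_TT P.hl]
      by_cases h : (i : ℕ) + 1 < f + 1
      · exact Submodule.subset_span ⟨Sum.inl ⟨i + 1, h⟩, by simp [oddE, mul_add]⟩
      · rw [C.TT_eq_zero P.kv (by omega)]; exact Submodule.zero_mem _
    · show C.ZZ l (C.TT l (2 * (i : ℕ) + 1) w) ∈ _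
      rw [C.ZZ_TT P.hl]
      by_cases h : (i : ℕ) + 1 < f
      · exact Submodule.subset_span ⟨Sum.inr ⟨i + 1, h⟩, by simp [oddE, mul_add, add_assoc]⟩
      · rw [C.TT_eq_zero P.kw (by omega)]; exact Submodule.zero_mem _
  · rintro _ ⟨i | i, rfl⟩
    · exact C.TT_mem_pairU_left P.kv _
    · exact C.TT_mem_pairU_right P.kw _

lemma odd_fix (P : C.IsPair l (2 * f + 1) v w)
    (ht : ∀ j, C.B v (C.TT l j w) = if j = 2 * f then 1 else 0) {y : V}
    (hy : y ∈ Submodule.span F (Set.range (C.oddE l f v w)))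
    (hgy : C.gl y ∈ Submodule.span F (Set.range (C.oddE l f v w))) :
    ∃ c : F, y = c • C.TT l (2 * f) v := by
  obtain ⟨hW, hS, hle⟩ := oddE_props P ht
  set W := Submodule.span F (Set.range (C.oddE l f v w)) with hWdef
  have hmv : ∀ i, C.TT l (2 * i) v ∈ W := fun i => by
    by_cases h : i < f + 1
    · exact Submodule.subset_span ⟨Sum.inl ⟨i, h⟩, rfl⟩
    · rw [C.TT_eq_zero P.kv (by omega)]; exact Submodule.zero_mem _
  have hmw : ∀ i, C.TT l (2 * i + 1) w ∈ W := fun i => by
    by_cases h : i < f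
    · exact Submodule.subset_span ⟨Sum.inr ⟨i, h⟩, rfl⟩
    · rw [C.TT_eq_zero P.kw (by omega)]; exact Submodule.zero_mem _
  have hg : C.gl (C.TT l (2 * f) v) = l • C.TT l (2 * f) v := by
    rw [C.gl_eq l, LinearMap.add_apply, C.NN_TT_even, C.TT_eq_zero P.kv le_rfl, zero_add]
    rfl
  have hlne : l ≠ 0 := fun h => by simpa [h] using P.hl
  have hd : C.B (C.TT l (2 * f) v) w ≠ 0 := by
    have h := C.TT_top P.hl P.he P.kv
    rw [show 2 * f + 1 - 1 = 2 * f by omega] at h
    have h2 : C.B ((C.NN l ^ (2 * f)) v) w = C.B v ((C.NN l ^ (2 * f)) w) :=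
      C.adj_NN_top P.hl P.he P.par v P.kw
    rw [h, map_smul, LinearMap.smul_apply, smul_eq_mul, h2]
    exact mul_ne_zero (pow_ne_zero _ hlne) P.ne
  refine ⟨C.B y w / C.B (C.TT l (2 * f) v) w, ?_⟩
  set c := C.B y w / C.B (C.TT l (2 * f) v) w with hc
  rw [← sub_eq_zero]
  set y' := y - c • C.TT l (2 * f) v with hy'
  have hy'W : y' ∈ W := W.sub_mem hy (W.smul_mem _ (hmv f))
  have hgy' : C.gl y' ∈ W := by
    rw [hy', map_sub, map_smul, hg]
    exact W.sub_mem hgy (W.smul_mem _ (W.smul_mem _ (hmv f)))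
  have hperp := perp_gl hW hS hy'W hgy'
  have hyw : C.B y' w = 0 := by
    rw [hy', map_sub, LinearMap.sub_apply, map_smul, LinearMap.smul_apply, smul_eq_mul, hc,
      div_mul_cancel₀ _ hd, sub_self]
  have hN : ∀ x ∈ W, C.B y' (C.NN l x) = 0 := by
    intro x hx
    simp only [NN, LinearMap.sub_apply, LinearMap.smul_apply, Module.End.one_apply, map_sub,
      map_smul, (hperp x hx).1, (hperp x hx).2, smul_zero, sub_zero]
  refine P.nondeg y' (hle hy'W) fun u hu => ?_
  rw [pairU] at hu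
  induction hu using Submodule.span_induction with
  | mem z hz =>
    obtain ⟨j | j, rfl⟩ := hz <;> simp only [Sum.elim_inl, Sum.elim_inr] <;>
      obtain ⟨i, hi | hi⟩ := (j : ℕ).even_or_odd' <;> rw [hi]
    · exact (hperp _ (hmv i)).1
    · rw [← C.NN_TT_even]; exact hN _ (hmv i)
    · rcases i with _ | i
      · rw [Nat.mul_zero, TT_zero]; exact hyw
      · have h := hN _ (hmw i)
        rw [C.NN_TT_odd, map_add, map_smul, show 2 * i + 3 = 2 * (i + 1) + 1 by ring,
          (hperp _ (hmw (i + 1))).1, add_zero, smul_eq_mul] at h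
        rw [show 2 * (i + 1) = 2 * i + 2 by ring]
        exact (mul_eq_zero.1 h).resolve_left hlne
    · exact (hperp _ (hmw i)).1
  | zero => simp
  | add a b _ _ ha hb => simp [ha, hb]
  | smul c a _ ha => simp [ha]

lemma datum_odd_one (P : C.IsPair 1 (2 * f + 1) v w)
    (ht : ∀ j, C.B v (C.TT (1 : F) j w) = if j = 2 * f then 1 else 0) :
    C.Datum (C.pairU 1 (2 * f + 1) v w) (C.oddE 1 f v w)
      (1 : Matrix (Fin (f + 1) ⊕ Fin f) (Fin (f + 1) ⊕ Fin f) F) := by
  obtain ⟨hW, hS, hle⟩ := oddE_props P ht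
  refine C.datum_one hW hS hle (fun y hy hgy => ?_) (oddE_indep P) rfl ?_
  · obtain ⟨c, rfl⟩ := odd_fix P ht hy hgy
    rw [map_smul, C.gl_eq 1, LinearMap.add_apply, C.NN_TT_even, C.TT_eq_zero P.kv le_rfl, zero_add]
    simp
  · rw [P.finrank_pairU, Fintype.card_sum, Fintype.card_fin, Fintype.card_fin]; ring

lemma datum_odd_neg (P : C.IsPair (-1) (2 * f + 1) v w)
    (ht : ∀ j, C.B v (C.TT (-1 : F) j w) = if j = 2 * f then 1 else 0) :
    C.Datum (C.pairU (-1) (2 * f + 1) v w) (C.oddE (-1) f v w)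
      (Matrix.diagonal fun i : Fin (f + 1) ⊕ Fin f =>
        if i = Sum.inl (Fin.last f) then (-1 : F) else 1) := by
  obtain ⟨hW, hS, hle⟩ := oddE_props P ht
  set E := C.oddE (-1) f v w with hE
  set A : Matrix _ _ F := Matrix.diagonal fun i : Fin (f + 1) ⊕ Fin f =>
        if i = Sum.inl (Fin.last f) then (-1 : F) else 1 with hA
  set W := Submodule.span F (Set.range E) with hWdef
  have hmem : ∀ i, E i ∈ W := fun i => Submodule.subset_span ⟨i, rfl⟩
  have htv0 : C.tv E A (Sum.inl (Fin.last f)) = 0 := by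
    have h : C.tv E A (Sum.inl (Fin.last f)) = C.gl (E (Sum.inl (Fin.last f))) + E (Sum.inl (Fin.last f)) := by
      simp [tv, hA, Matrix.diagonal_apply, gl]
    rw [h, C.gl_eq (-1), LinearMap.add_apply,
      show E (Sum.inl (Fin.last f)) = C.TT (-1) (2 * f) v from rfl, C.NN_TT_even,
      C.TT_eq_zero P.kv le_rfl, zero_add]
    simp
  have htv : ∀ i, i ≠ Sum.inl (Fin.last f) → C.tv E A i = C.gl (E i) - E i := by
    intro i hi
    simp [tv, hA, Matrix.diagonal_apply, hi, gl]
  refine ⟨fun i => hle (hmem i), oddE_indep P,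
    fun i j => hW _ (hmem i) _ (hmem j), ?_, fun i j => ?_, fun c hc => ?_⟩
  · rw [P.finrank_pairU, Fintype.card_sum, Fintype.card_fin, Fintype.card_fin]; ring
  · by_cases hi : i = Sum.inl (Fin.last f)
    · rw [hi, htv0, map_zero, LinearMap.zero_apply]
    by_cases hj : j = Sum.inl (Fin.last f)
    · rw [hj, htv0, map_zero]
    rw [htv i hi, htv j hj, C.tsub_eq, hW _ (hmem i) _ (hmem j),
      hW _ (hS _ (hmem i)) _ (hmem j), mul_zero, sub_zero]
  · set c' : Fin (f + 1) ⊕ Fin f → F := fun i => if i = Sum.inl (Fin.last f) then 0 else c i with hc'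
    have hsum : ∑ j, c j • C.tv E A j = C.gl (∑ j, c' j • E j) - ∑ j, c' j • E j := by
      rw [map_sum, ← Finset.sum_sub_distrib]
      refine Finset.sum_congr rfl fun j _ => ?_
      by_cases hj : j = Sum.inl (Fin.last f)
      · simp [hc', hj, htv0]
      · simp [hc', hj, htv j hj, smul_sub]
    rw [hsum] at hc ⊢
    have hy : ∑ j, c' j • E j ∈ W := W.sum_mem fun i _ => W.smul_mem _ (hmem i)
    have hgy := W.add_mem hc hy
    rw [sub_add_cancel] at hgy
    obtain ⟨k, hk⟩ := odd_fix P ht hy hgy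
    have h0 : ∀ j, c' j = 0 := by
      have hlin := Fintype.linearIndependent_iff.1 (oddE_indep P)
        (fun j => c' j - if j = Sum.inl (Fin.last f) then k else 0) (by
          simp only [sub_smul, Finset.sum_sub_distrib, ite_smul, zero_smul,
            Finset.sum_ite_eq', Finset.mem_univ, if_true]
          rw [sub_eq_zero]
          exact hk)
      intro j
      by_cases hj : j = Sum.inl (Fin.last f)
      · simp [hc', hj]
      · simpa [hj] using hlin j
    simp [h0]

lemma datum_even (P : C.IsPair 1 (2 * f) v w)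
    (ht : ∀ j, C.B v (C.TT (1 : F) j w) = if j = 2 * f - 1 then 1 else 0) :
    C.Datum (C.pairU 1 (2 * f) v w) (C.evenE 1 f v w)
      (1 : Matrix (Fin f ⊕ Fin f) (Fin f ⊕ Fin f) F) := by
  set E := C.evenE 1 f v w with hE
  set W := Submodule.span F (Set.range E) with hWdef
  have hf : 1 ≤ f := by have := P.he; omega
  have hmv : ∀ i, C.TT (1 : F) (2 * i) v ∈ W := fun i => by
    by_cases h : i < f
    · exact Submodule.subset_span ⟨Sum.inl ⟨i, h⟩, rfl⟩
    · rw [C.TT_eq_zero P.kv (by omega)]; exact Submodule.zero_mem _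
  have hmw : ∀ i, C.TT (1 : F) (2 * i) w ∈ W := fun i => by
    by_cases h : i < f
    · exact Submodule.subset_span ⟨Sum.inr ⟨i, h⟩, rfl⟩
    · rw [C.TT_eq_zero P.kw (by omega)]; exact Submodule.zero_mem _
  have hvw : ∀ i j : ℕ, C.B (C.TT (1 : F) (2 * i) v) (C.TT (1 : F) (2 * j) w) = 0 := by
    intro i j
    rw [C.TT_even P.hl, C.TT_even P.hl, C.adj_ZZ_pow, ← Module.End.mul_apply, ← pow_add,
      ← C.TT_even P.hl, ht, if_neg (by omega)]
  have hW : ∀ x ∈ W, ∀ y ∈ W, C.B x y = 0 := by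
    refine span_iso ?_
    rintro (i | i) (j | j) <;> simp only [hE, evenE, Sum.elim_inl, Sum.elim_inr]
    · rw [C.TT_even P.hl, C.TT_even P.hl, C.adj_ZZ_pow, ← Module.End.mul_apply, ← pow_add,
        C.B_ZZ_pow]
    · exact hvw i j
    · rw [C.symm, hvw, neg_zero]
    · rw [C.TT_even P.hl, C.TT_even P.hl, C.adj_ZZ_pow, ← Module.End.mul_apply, ← pow_add,
        C.B_ZZ_pow]
  have hS : ∀ x ∈ W, C.SS x ∈ W := by
    refine span_SS P.hl ?_
    rintro (i | i) <;> simp only [hE, evenE, Sum.elim_inl, Sum.elim_inr] <;>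
      rw [C.ZZ_TT P.hl, show 2 * (i : ℕ) + 2 = 2 * (i + 1) by ring]
    · exact hmv _
    · exact hmw _
  have hle : W ≤ C.pairU 1 (2 * f) v w := by
    refine Submodule.span_le.2 ?_
    rintro _ ⟨i | i, rfl⟩
    · exact C.TT_mem_pairU_left P.kv _
    · exact C.TT_mem_pairU_right P.kw _
  refine C.datum_one hW hS hle (fun y hy hgy => ?_) ?_ rfl ?_
  · suffices h : y = 0 by rw [h, map_zero]
    have hperp := perp_gl hW hS hy hgy
    have hN : ∀ x ∈ W, C.B y (C.NN 1 x) = 0 := by
      intro x hx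
      simp only [NN, LinearMap.sub_apply, LinearMap.smul_apply, Module.End.one_apply, map_sub,
        map_smul, (hperp x hx).1, (hperp x hx).2, smul_zero, sub_zero]
    refine P.nondeg y (hle hy) fun u hu => ?_
    rw [pairU] at hu
    induction hu using Submodule.span_induction with
    | mem z hz =>
      obtain ⟨j | j, rfl⟩ := hz <;> simp only [Sum.elim_inl, Sum.elim_inr] <;>
        obtain ⟨i, hi | hi⟩ := (j : ℕ).even_or_odd' <;> rw [hi]
      · exact (hperp _ (hmv i)).1
      · rw [← C.NN_TT_even]; exact hN _ (hmv i)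
      · exact (hperp _ (hmw i)).1
      · rw [← C.NN_TT_even]; exact hN _ (hmw i)
    | zero => simp
    | add a b _ _ ha hb => simp [ha, hb]
    | smul c a _ ha => simp [ha]
  · have hσ : Function.Injective (Sum.map (fun i : Fin f => (⟨2 * i, by omega⟩ : Fin (2 * f)))
        (fun i : Fin f => (⟨2 * i, by omega⟩ : Fin (2 * f)))) :=
      Function.Injective.sumMap (fun a b h => Fin.ext (by simpa using congrArg Fin.val h))
        (fun a b h => Fin.ext (by simpa using congrArg Fin.val h))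
    convert P.indep.comp _ hσ using 1
    funext i; rcases i with i | i <;> rfl
  · rw [P.finrank_pairU, Fintype.card_sum, Fintype.card_fin]; ring

/-- Trivial-block data exist. -/
def Tame (C : Ctx F V) (M : Submodule F V) : Prop :=
  ∃ (ι : Type) (_ : Fintype ι) (_ : DecidableEq ι) (e : ι → V), C.Datum M e (1 : Matrix ι ι F)

/-- The remaining pieces: `-g` is unipotent with a pair of odd length. -/
structure IsBad (C : Ctx F V) (U : Submodule F V) : Prop where
  two : (2 : F) ≠ 0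
  ex : ∃ f : ℕ, finrank F U = 2 * (2 * f + 1) ∧
    (∀ x ∈ U, (C.NN (-1) ^ (2 * f + 1)) x = 0 ∧ C.B x ((C.NN (-1) ^ (2 * f)) x) = 0) ∧
    (∃ v ∈ U, ∃ y ∈ U, C.B v ((C.NN (-1) ^ (2 * f)) y) ≠ 0) ∧
    ∃ e : Fin (f + 1) ⊕ Fin f → V, C.Datum U e (Matrix.diagonal fun i =>
      if i = Sum.inl (Fin.last f) then (-1 : F) else 1)

/-- A piece of every nonzero nondegenerate stable subspace. -/
theorem exists_piece {M : Submodule F V} (hM : C.Nondeg M) (hS : C.Stable M) (hne : M ≠ ⊥) :
    ∃ U ≤ M, U ≠ ⊥ ∧ C.Nondeg U ∧ C.Stable U ∧ (C.Tame U ∨ C.IsBad U) := by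
  rcases C.split hM hS hne with ⟨v, hv, hv0, hU⟩ |
    ⟨l, e, hl, he, hpar, v, hv, y, hy, kv, ky, hne', H⟩
  · obtain ⟨n, E, D⟩ := C.datum_cyc v hU
    exact ⟨C.cyc v, C.cyc_le hS hv,
      fun h => hv0 ((Submodule.mem_bot F).1 (h ▸ C.self_mem_cyc v)), hU, C.stable_cyc v,
      Or.inl ⟨Fin n, inferInstance, inferInstance, E, D⟩⟩
  have H' : ∀ x ∈ M, (C.NN l ^ e) x = 0 → C.B ((C.NN l ^ (e - 1)) x) x = 0 := fun x hx hxe => by
    simpa using H x hx hxe 1
  obtain ⟨w, hw, P, ht⟩ := C.exists_pair hS hl he hpar hv hy kv ky hne' H'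
  have hUM : C.pairU l e v w ≤ M := by
    refine Submodule.span_le.2 ?_
    rintro _ ⟨i | i, rfl⟩ <;> simp only [Sum.elim_inl, Sum.elim_inr, SetLike.mem_coe, TT_apply] <;>
      rw [← aeval_X_pow (R := F) C.gi, show C.NN l ^ (i : ℕ) =
        aeval C.gl ((X - Polynomial.C l) ^ (i : ℕ)) by rw [map_pow, ← C.NN_eq]]
    · exact hS.aeval_gi_mem _ (hS.aeval_mem _ hv)
    · exact hS.aeval_gi_mem _ (hS.aeval_mem _ hw)
  refine ⟨C.pairU l e v w, hUM, ?_, P.nondeg, P.stable, ?_⟩
  · intro h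
    have := P.finrank_pairU
    rw [h, finrank_bot] at this
    omega
  obtain ⟨f, rfl | rfl⟩ := e.even_or_odd'
  · left
    have hl1 : l = 1 := by
      have h1 : (-1 : F) = 1 := by
        rwa [show 2 * f - 1 = 2 * (f - 1) + 1 by omega, pow_succ, pow_mul, neg_one_sq, one_pow,
          one_mul] at hpar
      rcases mul_self_eq_one_iff.1 hl with h | h
      · exact h
      · rw [h, h1]
    subst hl1
    exact ⟨_, inferInstance, inferInstance, _, datum_even P ht⟩
  · simp only [show 2 * f + 1 - 1 = 2 * f by omega] at ht hne' H'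
    rcases eq_or_ne l 1 with rfl | hl1
    · exact Or.inl ⟨_, inferInstance, inferInstance, _, datum_odd_one P ht⟩
    have hlm : l = -1 := (mul_self_eq_one_iff.1 hl).resolve_left hl1
    subst hlm
    have hker : ∀ x ∈ C.pairU (-1) (2 * f + 1) v w, (C.NN (-1) ^ (2 * f + 1)) x = 0 := by
      intro x hx
      rw [pairU] at hx
      induction hx using Submodule.span_induction with
      | mem z hz =>
        obtain ⟨i | i, rfl⟩ := hz
        · show (C.NN (-1) ^ (2 * f + 1)) (C.TT (-1) i v) = 0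
          rw [C.NN_pow_TT, C.NN_pow_eq_zero kv (by omega), map_zero]
        · show (C.NN (-1) ^ (2 * f + 1)) (C.TT (-1) i w) = 0
          rw [C.NN_pow_TT, C.NN_pow_eq_zero P.kw (by omega), map_zero]
      | zero => simp
      | add a b _ _ ha hb => simp [ha, hb]
      | smul c a _ ha => simp [ha]
    refine Or.inr ⟨fun h => hl1 ?_, f, P.finrank_pairU, fun x hx => ⟨hker x hx, ?_⟩,
      ⟨v, C.TT_mem_pairU_left P.kv 0, w, C.TT_mem_pairU_right P.kw 0, P.ne⟩, _, datum_odd_neg P ht⟩
    · linear_combination -h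
    · rw [C.symm, H' x (hUM hx) (hker x hx), neg_zero]

end Ctx

end Cfsg.Agent.Lib.SpCommutator
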