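import Cfsg.Agent.Lib.SpCommutator.Siegel

/-!
# Blocks which are commutators with an element free of invariant forms (helper52)
-/

set_option autoImplicit false

namespace Cfsg.Agent.Lib.SpCommutator

open Matrix Polynomial

variable {F : Type*} [Field F] {ι κ : Type*} [Fintype ι] [DecidableEq ι] [Fintype κ] [DecidableEq κ]

lemma GoodBlock.reindex {A : Matrix ι ι F} (h : GoodBlock A) (e : ι ≃ κ) :
    GoodBlock (A.submatrix e.symm e.symm) := by
  obtain ⟨K, Q, ⟨p, hp, hu⟩, hA⟩ := h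
  let φ : Matrix ι ι F ≃ₐ[F] Matrix κ κ F := Matrix.reindexAlgEquiv F F e
  let f : GL ι F →* GL κ F := Units.map φ.toRingEquiv.toMonoidHom
  refine ⟨f K, f Q, ⟨p, ?_, ?_⟩, ?_⟩
  · show aeval (φ (K : Matrix ι ι F)) p = 0
    rw [aeval_algHom_apply, hp, map_zero]
  · rw [← map_inv]
    show IsUnit (aeval (φ (↑K⁻¹ : Matrix ι ι F)) p)
    rw [aeval_algHom_apply]
    exact hu.map φ
  · rw [← map_inv, ← map_inv, ← map_mul, ← map_mul, ← map_mul, hA]
    rfl

lemma goodBlock_one_of_noFix {K : GL ι F} (hK : NoFix K) : GoodBlock (1 : Matrix ι ι F) :=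
  ⟨K, 1, hK, by simp⟩

lemma goodBlock_one_large [Fintype F] (h4 : 4 ≤ Fintype.card F) :
    GoodBlock (1 : Matrix ι ι F) := by
  classical
  obtain ⟨β, hβ⟩ : ∃ β : F, β ∉ ({0, 1, -1} : Finset F) := by
    by_contra h
    push Not at h
    have := Finset.card_le_card (fun x (_ : x ∈ (Finset.univ : Finset F)) => h x)
    rw [Finset.card_univ] at this
    exact absurd (this.trans Finset.card_le_three) (by omega)
  simp at hβ
  obtain ⟨h0, h1, h1'⟩ := hβ
  refine goodBlock_one_of_noFix (K := Units.map (algebraMap F (Matrix ι ι F)).toMonoidHom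
    (Units.mk0 β h0)) ⟨X - C β, ?_, ?_⟩
  · simp
  · rw [← map_inv]
    simp only [map_sub, aeval_X, aeval_C]
    show IsUnit (algebraMap F (Matrix ι ι F) β⁻¹ - _)
    rw [← map_sub]
    refine IsUnit.map _ (isUnit_iff_ne_zero.2 fun h => ?_)
    rcases mul_self_eq_one_iff.1 (show β * β = 1 by
      rw [sub_eq_zero] at h; nth_rewrite 1 [← h]; exact inv_mul_cancel₀ h0) with h' | h'
    · exact h1 h'
    · exact h1' h'

/-- The companion matrix of `p`. -/
noncomputable def companion (p : F[X]) : Matrix (Fin p.natDegree) (Fin p.natDegree) F :=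
  Matrix.of fun i j => if (j : ℕ) + 1 = p.natDegree then -p.coeff i
    else if (i : ℕ) = j + 1 then 1 else 0

lemma aeval_companion {p : F[X]} (hp : p.Monic) : aeval (companion p) p = 0 := by
  set pb := AdjoinRoot.powerBasis hp.ne_zero with hpb
  have hdim : pb.dim = p.natDegree := rfl
  have hmin : pb.minpolyGen = p := by
    rw [PowerBasis.minpolyGen_eq, AdjoinRoot.minpoly_powerBasis_gen_of_monic hp]
  have hK : Algebra.leftMulMatrix pb.basis pb.gen = companion p := by
    rw [PowerBasis.leftMulMatrix, hmin]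
    rfl
  rw [← hK]
  exact (aeval_algHom_apply (Algebra.leftMulMatrix pb.basis) (AdjoinRoot.root p) p).trans
    (by rw [AdjoinRoot.aeval_eq, AdjoinRoot.mk_self, map_zero]; rfl)

lemma noFix_trinomial {m j : ℕ} {a b : F} (hj : 1 ≤ j) (hjm : j < m) (hb : b ≠ 0)
    (hcop : IsCoprime (X ^ m + C a * X ^ j + C b) (C b * X ^ m + C a * X ^ (m - j) + 1))
    {M : Matrix ι ι F} (hM : aeval M (X ^ m + C a * X ^ j + C b) = 0) :
    ∃ K : GL ι F, (K : Matrix ι ι F) = M ∧ NoFix K := by
  simp only [map_add, map_mul, map_pow, aeval_X, aeval_C, Algebra.algebraMap_eq_smul_one,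
    smul_mul_assoc, one_mul] at hM
  obtain ⟨l, rfl⟩ : ∃ l, j = l + 1 := ⟨j - 1, by omega⟩
  obtain ⟨k, rfl⟩ : ∃ k, m = k + (l + 1) := ⟨m - (l + 1), by omega⟩
  have hu : IsUnit M := by
    have h : M * (M ^ (k + l) + a • M ^ l) = (-b) • 1 := by
      rw [Matrix.mul_add, ← pow_succ', Matrix.mul_smul, ← pow_succ', neg_smul,
        ← add_eq_zero_iff_eq_neg, add_assoc k l 1, hM]
    refine IsUnit.of_mul_eq_one ((-b)⁻¹ • (M ^ (k + l) + a • M ^ l)) ?_
    rw [Matrix.mul_smul, h, smul_smul, inv_mul_cancel₀ (neg_ne_zero.2 hb), one_smul]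
  obtain ⟨K, rfl⟩ := hu
  refine ⟨K, rfl, X ^ (k + (l + 1)) + C a * X ^ (l + 1) + C b, ?_, ?_⟩
  · simpa [Algebra.algebraMap_eq_smul_one] using hM
  · rw [Nat.add_sub_cancel] at hcop
    have hcan : ∀ n : ℕ, (K : Matrix ι ι F) ^ n * (↑K⁻¹ : Matrix ι ι F) ^ n = 1 := fun n => by
      rw [← Units.val_pow_eq_pow_val, ← Units.val_pow_eq_pow_val, ← Units.val_mul, inv_pow,
        mul_inv_cancel, Units.val_one]
    have hr : (K : Matrix ι ι F) ^ (k + (l + 1)) *
          aeval (↑K⁻¹ : Matrix ι ι F) (X ^ (k + (l + 1)) + C a * X ^ (l + 1) + C b) =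
        aeval (K : Matrix ι ι F) (C b * X ^ (k + (l + 1)) + C a * X ^ k + 1) := by
      simp only [map_add, map_mul, map_pow, aeval_X, aeval_C, map_one,
        Algebra.algebraMap_eq_smul_one, smul_mul_assoc, one_mul, Matrix.mul_add, Matrix.mul_smul,
        Matrix.mul_one]
      have h2 : (K : Matrix ι ι F) ^ (k + (l + 1)) * (↑K⁻¹ : Matrix ι ι F) ^ (l + 1) =
          (K : Matrix ι ι F) ^ k := by
        rw [pow_add, Matrix.mul_assoc, hcan, Matrix.mul_one]
      rw [hcan, h2]
      abel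
    obtain ⟨u, v, huv⟩ := hcop
    have he : aeval (K : Matrix ι ι F) v * ((K : Matrix ι ι F) ^ (k + (l + 1)) *
        aeval (↑K⁻¹ : Matrix ι ι F) (X ^ (k + (l + 1)) + C a * X ^ (l + 1) + C b)) = 1 := by
      rw [hr]
      have h := congrArg (aeval (K : Matrix ι ι F)) huv
      have hz : aeval (K : Matrix ι ι F) (X ^ (k + (l + 1)) + C a * X ^ (l + 1) + C b) = 0 := by
        simpa [Algebra.algebraMap_eq_smul_one] using hM
      rw [map_add, map_mul, map_mul, hz, mul_zero, zero_add, map_one] at h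
      exact h
    rw [← Matrix.mul_assoc] at he
    exact IsUnit.of_mul_eq_one _ (mul_eq_one_comm.1 he)

lemma isCoprime_of_no_common_root {f g : F[X]}
    (h : ∀ z : AlgebraicClosure F, aeval z f = 0 → aeval z g = 0 → False) : IsCoprime f g := by
  rw [Polynomial.isCoprime_iff_aeval_ne_zero_of_isAlgClosed (k := F) (K := AlgebraicClosure F)]
  intro z
  by_contra hc
  push Not at hc
  exact h z hc.1 hc.2

lemma cast_card_closure [Fintype F] :
    ((Fintype.card F : ℕ) : AlgebraicClosure F) = 0 := by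
  rw [← map_natCast (algebraMap F (AlgebraicClosure F)), FiniteField.cast_card_eq_zero, map_zero]

lemma isCoprime_three [Fintype F] (h3 : Fintype.card F = 3) {m : ℕ} (hm : 2 ≤ m) :
    IsCoprime (X ^ m + C (-1 : F) * X ^ 1 + C (-1))
      (C (-1) * X ^ m + C (-1) * X ^ (m - 1) + 1) := by
  apply isCoprime_of_no_common_root
  intro z hf hg
  have h30 : (3 : AlgebraicClosure F) = 0 := by
    have := cast_card_closure (F := F)
    rw [h3] at this; exact_mod_cast this
  simp only [map_add, map_mul, map_pow, aeval_X, aeval_C, map_one, map_neg] at hf hg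
  obtain ⟨k, rfl⟩ : ∃ k, m = k + 1 := ⟨m - 1, by omega⟩
  simp only [Nat.add_sub_cancel] at hg
  rw [pow_succ] at hf hg
  have hq : (z - 1) * (z - 1) = 0 := by
    linear_combination (-1 : AlgebraicClosure F) * (z + 1) * hf - z * hg - z * h30
  have hz : z = 1 := sub_eq_zero.1 (mul_self_eq_zero.1 hq)
  subst hz
  simp at hf

lemma isCoprime_two [Fintype F] (h2 : Fintype.card F = 2) {m : ℕ} (hm : 3 ≤ m) :
    ∃ j, 1 ≤ j ∧ j < m ∧ IsCoprime (X ^ m + C (1 : F) * X ^ j + C 1)
      (C 1 * X ^ m + C 1 * X ^ (m - j) + 1) := by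
  have h20 : (2 : AlgebraicClosure F) = 0 := by
    have := cast_card_closure (F := F)
    rw [h2] at this; exact_mod_cast this
  by_cases h : m % 3 = 2
  · refine ⟨2, by omega, by omega, isCoprime_of_no_common_root fun z hf hg => ?_⟩
    simp only [map_one, one_mul, map_add, map_pow, aeval_X] at hf hg
    obtain ⟨k, rfl⟩ : ∃ k, m = k + 2 := ⟨m - 2, by omega⟩
    simp only [Nat.add_sub_cancel] at hg
    have hq : (z * z + z + 1) * (z * z + z + 1) = 0 := by
      linear_combination (-(z ^ 2) - 1) * hf + z ^ 2 * hg + (z ^ 4 + z ^ 3 + 2 * z ^ 2 + z + 1) * h20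
    have hq' := mul_self_eq_zero.1 hq
    have h3 : z ^ 3 = 1 := by linear_combination (z - 1) * hq'
    have hk : z ^ (k + 2) = z ^ 2 := by
      rw [← Nat.div_add_mod (k + 2) 3, h, pow_add, pow_mul, h3, one_pow, one_mul]
    rw [hk] at hf
    apply one_ne_zero (α := AlgebraicClosure F)
    linear_combination hf - z ^ 2 * h20
  · refine ⟨1, le_rfl, by omega, isCoprime_of_no_common_root fun z hf hg => ?_⟩
    simp only [map_one, one_mul, map_add, map_pow, aeval_X] at hf hg
    obtain ⟨k, rfl⟩ : ∃ k, m = k + 1 := ⟨m - 1, by omega⟩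
    simp only [Nat.add_sub_cancel] at hg
    have hq' : z * z + z + 1 = 0 := by
      linear_combination (-z - 1) * hf + z * hg + (z * z + z + 1) * h20
    have h3 : z ^ 3 = 1 := by linear_combination (z - 1) * hq'
    have hz0 : z ≠ 0 := by rintro rfl; simp at h3
    rcases (show (k + 1) % 3 = 0 ∨ (k + 1) % 3 = 1 by omega) with h' | h'
    · have hk : z ^ (k + 1) = 1 := by
        rw [← Nat.div_add_mod (k + 1) 3, h', pow_add, pow_mul, h3]; simp
      rw [hk] at hf
      exact hz0 (by linear_combination hf - h20)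
    · have hk : z ^ (k + 1) = z := by
        rw [← Nat.div_add_mod (k + 1) 3, h', pow_add, pow_mul, h3]; simp
      rw [hk] at hf
      exact one_ne_zero (α := AlgebraicClosure F) (by linear_combination hf - z * h20)

lemma monic_trinomial {m j : ℕ} {a b : F} (hjm : j < m) :
    (X ^ m + C a * X ^ j + C b).Monic ∧ (X ^ m + C a * X ^ j + C b).natDegree = m := by
  have h1 : (C a * X ^ j + C b).degree < (m : WithBot ℕ) := by
    refine (degree_add_le _ _).trans_lt (max_lt ?_ ?_)
    · exact (degree_C_mul_X_pow_le _ _).trans_lt (by exact_mod_cast hjm)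
    · exact degree_C_le.trans_lt (by exact_mod_cast (Nat.zero_le j).trans_lt hjm)
  rw [add_assoc]
  refine ⟨monic_X_pow_add h1, ?_⟩
  apply natDegree_eq_of_degree_eq_some
  rw [degree_add_eq_left_of_degree_lt (by rwa [degree_X_pow]), degree_X_pow]

theorem goodBlock_one [Fintype F] {m : ℕ} (hm : Fintype.card ι = m)
    (hexc : (Fintype.card F = 2 → 3 ≤ m) ∧ (Fintype.card F = 3 → 2 ≤ m)) :
    GoodBlock (1 : Matrix ι ι F) := by
  have hq : 1 < Fintype.card F := Fintype.one_lt_card
  rcases Nat.lt_or_ge (Fintype.card F) 4 with h | h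
  swap
  · exact goodBlock_one_large h
  obtain ⟨j, a, b, hj, hjm, hb, hcop⟩ : ∃ (j : ℕ) (a b : F), 1 ≤ j ∧ j < m ∧ b ≠ 0 ∧
      IsCoprime (X ^ m + C a * X ^ j + C b) (C b * X ^ m + C a * X ^ (m - j) + 1) := by
    rcases (show Fintype.card F = 2 ∨ Fintype.card F = 3 by omega) with h' | h'
    · obtain ⟨j, hj, hjm, hc⟩ := isCoprime_two h' (hexc.1 h')
      exact ⟨j, 1, 1, hj, hjm, one_ne_zero, hc⟩
    · exact ⟨1, -1, -1, le_rfl, hexc.2 h', neg_ne_zero.2 one_ne_zero,
        isCoprime_three h' (hexc.2 h')⟩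
  obtain ⟨hmon, hdeg⟩ := monic_trinomial (a := a) (b := b) hjm
  obtain ⟨K, -, hK⟩ := noFix_trinomial hj hjm hb hcop (aeval_companion hmon)
  have := (goodBlock_one_of_noFix hK).reindex
    ((finCongr (hdeg.trans hm.symm)).trans (Fintype.equivFin ι).symm)
  convert this using 1
  rw [Matrix.submatrix_one_equiv]

/-- Two `-1` on the diagonal. -/
theorem goodBlock_two_refl [Fintype F] (h3 : Fintype.card F = 3) {i₁ i₂ : ι} (hne : i₁ ≠ i₂)
    (hn : 3 ≤ Fintype.card ι) :
    GoodBlock (Matrix.diagonal fun i => if i = i₁ ∨ i = i₂ then (-1 : F) else 1) := by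
  classical
  set m := Fintype.card ι with hm
  obtain ⟨p, hp⟩ : ∃ p, p = (X ^ m + C (-1 : F) * X ^ 1 + C (-1) : F[X]) := ⟨_, rfl⟩
  obtain ⟨hmon, hdeg⟩ : p.Monic ∧ p.natDegree = m := hp ▸ monic_trinomial (show 1 < m by omega)
  obtain ⟨K, hKval, hK⟩ : ∃ K : GL (Fin p.natDegree) F,
      (K : Matrix _ _ F) = companion p ∧ NoFix K :=
    noFix_trinomial le_rfl (show 1 < m by omega) (neg_ne_zero.2 one_ne_zero)
      (isCoprime_three h3 (by omega)) (hp ▸ aeval_companion hmon)
  let s₂ : Fin p.natDegree := ⟨m - 2, by omega⟩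
  let s₁ : Fin p.natDegree := ⟨m - 1, by omega⟩
  let dv : Fin p.natDegree → F := fun i => if i = s₂ then -1 else 1
  let rv : Fin p.natDegree → F := fun i => if i = s₁ ∨ i = s₂ then -1 else 1
  let D : GL (Fin p.natDegree) F := ⟨Matrix.diagonal dv, Matrix.diagonal dv,
    by rw [Matrix.diagonal_mul_diagonal, ← Matrix.diagonal_one]; congr 1; funext i
       simp only [dv]; split_ifs <;> simp,
    by rw [Matrix.diagonal_mul_diagonal, ← Matrix.diagonal_one]; congr 1; funext i
       simp only [dv]; split_ifs <;> simp⟩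
  have hcoef : p.coeff (m - 1) = 0 := by
    obtain ⟨l, hl⟩ : ∃ l, m = l + 3 := ⟨m - 3, by omega⟩
    rw [hp, hl]; simp [coeff_X_pow, coeff_X, coeff_one, coeff_C]
  have hswap : Matrix.diagonal rv * Matrix.diagonal dv * (K : Matrix _ _ F) =
      (K : Matrix _ _ F) * Matrix.diagonal dv := by
    rw [hKval, Matrix.diagonal_mul_diagonal]
    ext i j
    rw [Matrix.diagonal_mul, Matrix.mul_diagonal]
    have hi := i.isLt
    have hj := j.isLt
    simp only [companion, Matrix.of_apply, rv, dv]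
    by_cases hlast : (i : ℕ) = m - 1 ∧ (j : ℕ) + 1 = p.natDegree
    · rw [if_pos hlast.2, hlast.1, hcoef]; simp
    simp only [Fin.ext_iff, s₁, s₂]
    split_ifs <;> (try simp) <;> omega
  have key : Matrix.diagonal rv =
      ((K * D * K⁻¹ * D⁻¹ : GL (Fin p.natDegree) F) : Matrix _ _ F) := by
    rw [Units.val_mul, Units.val_mul, Units.val_mul]
    show _ = (K : Matrix _ _ F) * Matrix.diagonal dv * (↑K⁻¹ : Matrix _ _ F) * Matrix.diagonal dv
    rw [← hswap]
    simp only [Matrix.mul_assoc]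
    rw [← Matrix.mul_assoc (↑K : Matrix (Fin p.natDegree) (Fin p.natDegree) F) _, K.mul_inv,
      Matrix.one_mul,
      Matrix.diagonal_mul_diagonal dv dv, show (fun i => dv i * dv i) = fun _ => (1 : F)
        from funext fun i => by simp only [dv]; split_ifs <;> simp, Matrix.diagonal_one, Matrix.mul_one]
  have hgood : GoodBlock (Matrix.diagonal rv) := ⟨K, D, hK, key⟩
  let e₀ : Fin p.natDegree ≃ ι := (finCongr (hdeg.trans hm)).trans (Fintype.equivFin ι).symm
  let e₁ := e₀.trans (Equiv.swap (e₀ s₁) i₁)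
  let e := e₁.trans (Equiv.swap (e₁ s₂) i₂)
  have hs : s₁ ≠ s₂ := by simp [s₁, s₂, Fin.ext_iff]; omega
  have he1 : e₁ s₁ = i₁ := by simp [e₁]
  have hes₁ : e s₁ = i₁ := by
    simp only [e, Equiv.trans_apply, he1]
    apply Equiv.swap_apply_of_ne_of_ne
    · exact fun h => hs (e₁.injective (he1.trans h))
    · exact hne
  have hes₂ : e s₂ = i₂ := by simp [e]
  convert hgood.reindex e using 1
  rw [Matrix.submatrix_diagonal_equiv]
  congr 1
  funext i
  simp [rv, Equiv.symm_apply_eq, hes₁, hes₂]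

end Cfsg.Agent.Lib.SpCommutator
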