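import Mathlib

/-!
# Commutators in the symplectic group from a Siegel block decomposition (helper52)
-/

set_option autoImplicit false

namespace Cfsg.Agent.Lib.SpCommutator

open Matrix Polynomial

variable {F : Type*} [Field F] {ι : Type*} [Fintype ι] [DecidableEq ι]

/-- A matrix without non-zero invariant bilinear forms: some polynomial annihilates it while its
value at the inverse is invertible. -/
def NoFix (K : GL ι F) : Prop :=
  ∃ p : F[X], aeval (K : Matrix ι ι F) p = 0 ∧ IsUnit (aeval (↑K⁻¹ : Matrix ι ι F) p)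

lemma aeval_transpose (M : Matrix ι ι F) (p : F[X]) : aeval Mᵀ p = (aeval M p)ᵀ := by
  induction p using Polynomial.induction_on' with
  | add a b ha hb => simp [ha, hb, transpose_add]
  | monomial n c =>
    simp [aeval_monomial, ← transpose_pow, Algebra.algebraMap_eq_smul_one, transpose_smul]

lemma intertwine {A B R : Matrix ι ι F} (h : R * A = B * R) (p : F[X]) :
    R * aeval A p = aeval B p * R := by
  induction p using Polynomial.induction_on' with
  | add a b ha hb => simp [Matrix.mul_add, Matrix.add_mul, ha, hb]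
  | monomial n c =>
    have hpow : R * A ^ n = B ^ n * R := by
      induction n with
      | zero => simp
      | succ n ih => rw [pow_succ, ← Matrix.mul_assoc, ih, Matrix.mul_assoc, h, ← Matrix.mul_assoc,
          ← pow_succ]
    simp [aeval_monomial, Algebra.algebraMap_eq_smul_one, hpow]

lemma NoFix.fix_left {K : GL ι F} (hK : NoFix K) {R : Matrix ι ι F}
    (h : (K : Matrix ι ι F)ᵀ * R * K = R) : R = 0 := by
  obtain ⟨p, hp, hu⟩ := hK
  have h1 : R * (K : Matrix ι ι F) = (↑K⁻¹ : Matrix ι ι F)ᵀ * R := by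
    conv_rhs => rw [← h]
    rw [← Matrix.mul_assoc, ← Matrix.mul_assoc, ← transpose_mul, K.mul_inv, transpose_one,
      Matrix.one_mul]
  have h2 := intertwine h1 p
  rw [hp, Matrix.mul_zero, aeval_transpose] at h2
  have hu' : IsUnit (aeval (↑K⁻¹ : Matrix ι ι F) p)ᵀ :=
    (Matrix.isUnit_transpose _).2 hu
  exact hu'.mul_right_eq_zero.1 h2.symm

lemma NoFix.fix_right {K : GL ι F} (hK : NoFix K) {R : Matrix ι ι F}
    (h : (K : Matrix ι ι F) * R * (K : Matrix ι ι F)ᵀ = R) : R = 0 := by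
  obtain ⟨p, hp, hu⟩ := hK
  have h1 : (↑K⁻¹ : Matrix ι ι F) * R = R * (K : Matrix ι ι F)ᵀ := by
    conv_lhs => rw [← h]
    rw [← Matrix.mul_assoc, ← Matrix.mul_assoc, K.inv_mul, Matrix.one_mul]
  have h2 := intertwine h1.symm p
  rw [aeval_transpose, hp, transpose_zero, Matrix.mul_zero] at h2
  exact hu.mul_right_eq_zero.1 h2.symm

/-- `Sp(ι)`. -/
abbrev Sp (ι : Type*) [Fintype ι] [DecidableEq ι] (F : Type*) [Field F] : Type _ :=
  ↥(Matrix.symplecticGroup ι F)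

lemma lower_mem {S : Matrix ι ι F} (hS : Sᵀ = S) :
    fromBlocks 1 0 S 1 ∈ Matrix.symplecticGroup ι F := by
  rw [SymplecticGroup.mem_iff, Matrix.J, fromBlocks_transpose, fromBlocks_multiply,
    fromBlocks_multiply]
  simp [hS]

lemma upper_mem {S : Matrix ι ι F} (hS : Sᵀ = S) :
    fromBlocks 1 S 0 1 ∈ Matrix.symplecticGroup ι F := by
  rw [SymplecticGroup.mem_iff, Matrix.J, fromBlocks_transpose, fromBlocks_multiply,
    fromBlocks_multiply]
  simp [hS]

/-- Lower unipotent element. -/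
def lower (S : Matrix ι ι F) (hS : Sᵀ = S) : Sp ι F := ⟨fromBlocks 1 0 S 1, lower_mem hS⟩

/-- Upper unipotent element. -/
def upper (S : Matrix ι ι F) (hS : Sᵀ = S) : Sp ι F := ⟨fromBlocks 1 S 0 1, upper_mem hS⟩

lemma levi_mem (K : GL ι F) :
    fromBlocks (K : Matrix ι ι F) 0 0 ((↑K⁻¹ : Matrix ι ι F)ᵀ) ∈
      Matrix.symplecticGroup ι F := by
  have e1 : (K : Matrix ι ι F) * (↑K⁻¹ : Matrix ι ι F) = 1 := K.mul_inv
  rw [SymplecticGroup.mem_iff, Matrix.J, fromBlocks_transpose, fromBlocks_multiply,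
    fromBlocks_multiply]
  simp only [Matrix.mul_zero, Matrix.zero_mul, Matrix.mul_one, Matrix.mul_neg, Matrix.neg_mul,
    transpose_zero, transpose_transpose, neg_zero, add_zero, zero_add]
  rw [← transpose_mul, e1, transpose_one]

/-- The Levi embedding. -/
def levi : GL ι F →* Sp ι F where
  toFun K := ⟨_, levi_mem K⟩
  map_one' := by
    apply Subtype.ext
    simp [fromBlocks_one]
  map_mul' A B := by
    apply Subtype.ext
    simp [fromBlocks_multiply, _root_.mul_inv_rev, transpose_mul]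

lemma exists_sym_solution [Finite F] {H : Matrix ι ι F}
    (hH : ∀ R : Matrix ι ι F, Hᵀ * R * H = R → R = 0)
    {S : Matrix ι ι F} (hS : Sᵀ = S) :
    ∃ R : Matrix ι ι F, Rᵀ = R ∧ Hᵀ * R * H - R = S := by
  let T := {M : Matrix ι ι F // Mᵀ = M}
  have : Finite (Matrix ι ι F) := Finite.of_injective _ Matrix.of.symm.injective
  let φ : T → T := fun R => ⟨Hᵀ * R.1 * H - R.1, by
    rw [transpose_sub, transpose_mul, transpose_mul, transpose_transpose, R.2, Matrix.mul_assoc]⟩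
  have hinj : Function.Injective φ := by
    intro A B hAB
    have hAB' : Hᵀ * A.1 * H - A.1 = Hᵀ * B.1 * H - B.1 := congrArg Subtype.val hAB
    apply Subtype.ext
    rw [← sub_eq_zero]
    apply hH
    rw [Matrix.mul_sub, Matrix.sub_mul]
    rw [sub_eq_sub_iff_sub_eq_sub] at hAB'
    exact hAB'
  obtain ⟨R, hR⟩ := (Finite.injective_iff_surjective.1 hinj) ⟨S, hS⟩
  exact ⟨R.1, R.2, congrArg Subtype.val hR⟩

lemma exists_lower_conj [Finite F] {K : GL ι F} (hK : NoFix K) (S : Matrix ι ι F) (hS : Sᵀ = S) :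
    ∃ c : Sp ι F, lower S hS * levi K = c * levi K * c⁻¹ := by
  set H := (K : Matrix ι ι F) with hH
  set H' := (↑K⁻¹ : Matrix ι ι F) with hH'
  have hS' : (Hᵀ * S * H)ᵀ = Hᵀ * S * H := by
    rw [transpose_mul, transpose_mul, transpose_transpose, hS, Matrix.mul_assoc]
  obtain ⟨R, hR, hReq⟩ := exists_sym_solution (H := H) (fun _ => hK.fix_left) hS'
  refine ⟨lower R hR, ?_⟩
  rw [eq_mul_inv_iff_mul_eq]
  apply Subtype.ext
  show fromBlocks 1 0 S 1 * fromBlocks H 0 0 H'ᵀ * fromBlocks 1 0 R 1 =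
    fromBlocks 1 0 R 1 * fromBlocks H 0 0 H'ᵀ
  simp only [fromBlocks_multiply, Matrix.one_mul, Matrix.mul_one, Matrix.mul_zero,
    Matrix.zero_mul, add_zero, zero_add]
  congr 1
  have e2 : H'ᵀ * Hᵀ = 1 := by
    rw [← transpose_mul, show H * H' = 1 from K.mul_inv, transpose_one]
  have e3 := congrArg (H'ᵀ * ·) hReq
  simp only [Matrix.mul_sub] at e3
  rw [← Matrix.mul_assoc, ← Matrix.mul_assoc, e2, Matrix.one_mul, ← Matrix.mul_assoc,
    ← Matrix.mul_assoc, e2, Matrix.one_mul] at e3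
  rw [← e3, sub_add_cancel]

lemma exists_upper_conj [Finite F] {K : GL ι F} (hK : NoFix K) (S : Matrix ι ι F) (hS : Sᵀ = S) :
    ∃ c : Sp ι F, upper S hS * levi K = c * levi K * c⁻¹ := by
  set H := (K : Matrix ι ι F) with hH
  set H' := (↑K⁻¹ : Matrix ι ι F) with hH'
  have hfix : ∀ R : Matrix ι ι F, (Hᵀ)ᵀ * R * Hᵀ = R → R = 0 := fun R h => by
    rw [transpose_transpose] at h
    exact hK.fix_right h
  obtain ⟨R, hR, hReq⟩ := exists_sym_solution hfix (S := -S) (by rw [transpose_neg, hS])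
  rw [transpose_transpose] at hReq
  refine ⟨upper R hR, ?_⟩
  rw [eq_mul_inv_iff_mul_eq]
  apply Subtype.ext
  show fromBlocks 1 S 0 1 * fromBlocks H 0 0 H'ᵀ * fromBlocks 1 R 0 1 =
    fromBlocks 1 R 0 1 * fromBlocks H 0 0 H'ᵀ
  simp only [fromBlocks_multiply, Matrix.one_mul, Matrix.mul_one, Matrix.mul_zero,
    Matrix.zero_mul, add_zero, zero_add]
  congr 1
  have e2 : Hᵀ * H'ᵀ = 1 := by
    rw [← transpose_mul, show H' * H = 1 from K.inv_mul, transpose_one]
  have e3 := congrArg (· * H'ᵀ) hReq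
  simp only [Matrix.sub_mul, Matrix.mul_assoc, e2, Matrix.mul_one, Matrix.neg_mul] at e3
  calc H * R + S * H'ᵀ = R * H'ᵀ + ((H * R - R * H'ᵀ) + S * H'ᵀ) := by abel
    _ = R * H'ᵀ := by rw [e3]; abel

lemma exists_decomp (P : Sp ι F) (K : GL ι F)
    (hK : (P : Matrix (ι ⊕ ι) (ι ⊕ ι) F).toBlocks₁₁ = (K : Matrix ι ι F)) :
    ∃ (S T : Matrix ι ι F) (hS : Sᵀ = S) (hT : Tᵀ = T),
      P = lower S hS * levi K * upper T hT := by
  obtain ⟨P, hP⟩ := P
  obtain ⟨A, B, C, D, rfl⟩ : ∃ A B C D, P = fromBlocks A B C D :=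
    ⟨_, _, _, _, (fromBlocks_toBlocks P).symm⟩
  simp only [toBlocks_fromBlocks₁₁] at hK
  have hmem := SymplecticGroup.mem_iff'.1 hP
  rw [Matrix.J, fromBlocks_transpose, fromBlocks_multiply, fromBlocks_multiply] at hmem
  simp only [Matrix.mul_zero, Matrix.mul_one, Matrix.mul_neg, zero_add, add_zero, Matrix.neg_mul] at hmem
  obtain ⟨e11, e12, e21, e22⟩ := fromBlocks_inj.1 hmem
  subst hK
  set H := (K : Matrix ι ι F)
  set H' := (↑K⁻¹ : Matrix ι ι F)
  have k1 : H * H' = 1 := K.mul_inv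
  have k2 : H' * H = 1 := K.inv_mul
  have k3 : H'ᵀ * Hᵀ = 1 := by rw [← transpose_mul, k1, transpose_one]
  have k4 : Hᵀ * H'ᵀ = 1 := by rw [← transpose_mul, k2, transpose_one]
  have a11 : Cᵀ * H = Hᵀ * C := by
    rw [← sub_eq_zero, sub_eq_add_neg]; exact e11
  have hS : (C * H')ᵀ = C * H' := by
    have := congrArg (fun X => H'ᵀ * X * H') a11
    simp only [Matrix.mul_assoc, k1, Matrix.mul_one] at this
    rw [← Matrix.mul_assoc H'ᵀ Hᵀ, k3, Matrix.one_mul] at this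
    rw [transpose_mul]; exact this
  have a12 : Cᵀ * B - Hᵀ * D = -1 := by
    rw [sub_eq_add_neg]; exact e12
  have hD : Hᵀ * (D - C * H' * B) = 1 := by
    have hC : Hᵀ * (C * H' * B) = Cᵀ * B := by
      rw [← Matrix.mul_assoc, ← Matrix.mul_assoc, ← a11, Matrix.mul_assoc Cᵀ H H', k1,
        Matrix.mul_one]
    rw [Matrix.mul_sub, hC, ← neg_sub (Cᵀ * B), a12, neg_neg]
  have hD' : D = C * H' * B + H'ᵀ := by
    have := congrArg (H'ᵀ * ·) hD
    simp only [← Matrix.mul_assoc H'ᵀ Hᵀ, k3, Matrix.one_mul, Matrix.mul_one] at this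
    rw [← this]; abel
  have hTs : (H' * B)ᵀ = H' * B := by
    have a22 : Dᵀ * B = Bᵀ * D := by
      rw [← sub_eq_zero, sub_eq_add_neg]; exact e22
    rw [hD', transpose_add, transpose_mul, transpose_transpose, Matrix.add_mul, Matrix.mul_add,
      Matrix.mul_assoc Bᵀ, hS] at a22
    rw [transpose_mul]
    exact (add_left_cancel a22).symm
  refine ⟨C * H', H' * B, hS, hTs, ?_⟩
  apply Subtype.ext
  show fromBlocks H B C D =
    fromBlocks 1 0 (C * H') 1 * fromBlocks H 0 0 H'ᵀ * fromBlocks 1 (H' * B) 0 1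
  simp only [fromBlocks_multiply, Matrix.mul_zero, Matrix.zero_mul, Matrix.mul_one,
    Matrix.one_mul, add_zero, zero_add]
  rw [fromBlocks_inj]
  refine ⟨rfl, ?_, ?_, ?_⟩
  · rw [← Matrix.mul_assoc, k1, Matrix.one_mul]
  · rw [Matrix.mul_assoc C H' H, k2, Matrix.mul_one]
  · rw [hD', Matrix.mul_assoc C H' H, k2, Matrix.mul_one, Matrix.mul_assoc C H' B]

/-- `A` is a commutator `K Q K⁻¹ Q⁻¹` with `K` free of invariant forms. -/
def GoodBlock (A : Matrix ι ι F) : Prop :=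
  ∃ K Q : GL ι F, NoFix K ∧ A = ((K * Q * K⁻¹ * Q⁻¹ : GL ι F) : Matrix ι ι F)

theorem comm_of_block [Finite F] (P : Sp ι F)
    (h : GoodBlock (P : Matrix (ι ⊕ ι) (ι ⊕ ι) F).toBlocks₁₁) :
    ∃ a b : Sp ι F, P = a * b * a⁻¹ * b⁻¹ := by
  obtain ⟨K, Q, hK, hA⟩ := h
  obtain ⟨S, T, hS, hT, hP⟩ := exists_decomp P _ hA
  obtain ⟨r, hr⟩ := exists_lower_conj hK S hS
  set U := (levi Q)⁻¹ * upper T hT * levi Q with hU
  have hT' : ((↑Q⁻¹ : Matrix ι ι F) * T * (↑Q⁻¹ : Matrix ι ι F)ᵀ)ᵀ =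
      (↑Q⁻¹ : Matrix ι ι F) * T * (↑Q⁻¹ : Matrix ι ι F)ᵀ := by
    rw [transpose_mul, transpose_mul, transpose_transpose, hT, Matrix.mul_assoc]
  have hU' : U = upper _ hT' := by
    rw [hU, mul_assoc, inv_mul_eq_iff_eq_mul]
    apply Subtype.ext
    show fromBlocks 1 T 0 1 * fromBlocks (Q : Matrix ι ι F) 0 0 (↑Q⁻¹ : Matrix ι ι F)ᵀ =
      fromBlocks (Q : Matrix ι ι F) 0 0 (↑Q⁻¹ : Matrix ι ι F)ᵀ *
        fromBlocks 1 ((↑Q⁻¹ : Matrix ι ι F) * T * (↑Q⁻¹ : Matrix ι ι F)ᵀ) 0 1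
    simp [fromBlocks_multiply, ← Matrix.mul_assoc]
  have hTn : (-((↑Q⁻¹ : Matrix ι ι F) * T * (↑Q⁻¹ : Matrix ι ι F)ᵀ))ᵀ =
      -((↑Q⁻¹ : Matrix ι ι F) * T * (↑Q⁻¹ : Matrix ι ι F)ᵀ) := by
    rw [transpose_neg, hT']
  obtain ⟨s, hs⟩ := exists_upper_conj hK _ hTn
  have hUinv : U⁻¹ = upper _ hTn := by
    rw [inv_eq_iff_mul_eq_one, hU']
    apply Subtype.ext
    simp [upper, fromBlocks_multiply, fromBlocks_one]
  refine ⟨r * levi K * r⁻¹, levi Q * s * r⁻¹, ?_⟩
  have h2 : (levi K)⁻¹ * U = s * (levi K)⁻¹ * s⁻¹ := by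
    have := congrArg (·⁻¹) (show U⁻¹ * levi K = s * levi K * s⁻¹ by rw [hUinv, hs])
    simpa [_root_.mul_inv_rev, mul_assoc] using this
  rw [hP, map_mul, map_mul, map_mul, map_inv, map_inv]
  calc lower S hS * (levi K * levi Q * (levi K)⁻¹ * (levi Q)⁻¹) * upper T hT
      = (lower S hS * levi K) * (levi Q * ((levi K)⁻¹ * U) * (levi Q)⁻¹) := by
        rw [hU]; group
    _ = _ := by rw [hr, h2]; group

end Cfsg.Agent.Lib.SpCommutator
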