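import Cfsg.Agent.Lib.SpCommutator.Params

/-!
# Symplectic spaces: orthogonal sums and block data (helper52)
-/

set_option autoImplicit false

namespace Cfsg.Agent.Lib.SpCommutator

open Module

universe u

variable {F : Type u} [Field F] {V : Type u} [AddCommGroup V] [Module F V] [FiniteDimensional F V]

/-- A symplectic space with an isometry. -/
structure Ctx (F : Type u) [Field F] (V : Type u) [AddCommGroup V] [Module F V] where
  B : LinearMap.BilinForm F V
  g : V ≃ₗ[F] V
  alt : ∀ x, B x x = 0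
  nondeg : ∀ x, (∀ y, B x y = 0) → x = 0
  isom : ∀ x y, B (g x) (g y) = B x y

namespace Ctx

variable (C : Ctx F V)

omit [FiniteDimensional F V] in
lemma symm (x y : V) : C.B x y = -C.B y x := by
  have h := C.alt (x + y)
  simp only [map_add, LinearMap.add_apply, C.alt, zero_add, add_zero] at h
  linear_combination h

omit [FiniteDimensional F V] in
lemma isRefl : C.B.IsRefl := fun x y h => by rw [C.symm, h, neg_zero]

omit [FiniteDimensional F V] in
lemma nondegenerate : C.B.Nondegenerate :=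
  (LinearMap.IsRefl.nondegenerate_iff_separatingLeft C.isRefl).2 C.nondeg

omit [FiniteDimensional F V] in
lemma mem_orth {M : Submodule F V} {x : V} :
    x ∈ C.B.orthogonal M ↔ ∀ y ∈ M, C.B y x = 0 := Iff.rfl

/-- A nondegenerate subspace. -/
def Nondeg (M : Submodule F V) : Prop := ∀ x ∈ M, (∀ y ∈ M, C.B x y = 0) → x = 0

/-- A `g`-stable subspace. -/
def Stable (M : Submodule F V) : Prop := ∀ x ∈ M, C.g x ∈ M

omit [FiniteDimensional F V] in
lemma nondeg_top : C.Nondeg ⊤ := fun x _ h => C.nondeg x fun y => h y Submodule.mem_top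

omit [FiniteDimensional F V] in
lemma stable_top : C.Stable ⊤ := fun _ _ => Submodule.mem_top

lemma isCompl_orth {M : Submodule F V} (hM : C.Nondeg M) : IsCompl M (C.B.orthogonal M) := by
  apply LinearMap.BilinForm.isCompl_orthogonal_of_restrict_nondegenerate C.isRefl
  refine (LinearMap.IsRefl.nondegenerate_iff_separatingLeft (B := C.B.restrict M)
    (fun x y h => C.isRefl _ _ h)).2 ?_
  intro x hx
  exact Subtype.ext (hM x x.2 fun y hy => hx ⟨y, hy⟩)

omit [FiniteDimensional F V] in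
lemma Stable.inv_mem [FiniteDimensional F V] {C : Ctx F V} {M : Submodule F V} (hM : C.Stable M)
    {x : V} (hx : x ∈ M) : C.g.symm x ∈ M := by
  have hinj : Function.Injective ((C.g : V →ₗ[F] V).restrict hM) := fun a b h =>
    Subtype.ext (C.g.injective (congrArg Subtype.val h))
  obtain ⟨y, hy⟩ := LinearMap.injective_iff_surjective.1 hinj ⟨x, hx⟩
  have : C.g (y : V) = x := congrArg Subtype.val hy
  rw [← this, C.g.symm_apply_apply]
  exact y.2

omit [FiniteDimensional F V] in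
lemma isom_symm (x y : V) : C.B (C.g.symm x) (C.g.symm y) = C.B x y := by
  conv_rhs => rw [← C.g.apply_symm_apply x, ← C.g.apply_symm_apply y, C.isom]

lemma stable_orth {M : Submodule F V} (hM : C.Stable M) : C.Stable (C.B.orthogonal M) := by
  intro x hx y hy
  rw [← C.g.apply_symm_apply y, C.isom]
  exact hx _ (hM.inv_mem hy)

lemma nondeg_orth {M : Submodule F V} (hM : C.Nondeg M) : C.Nondeg (C.B.orthogonal M) := by
  intro x hx h
  apply C.nondeg
  intro y
  obtain ⟨m, hm, n, hn, rfl⟩ := Submodule.mem_sup.1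
    ((C.isCompl_orth hM).sup_eq_top.ge (Submodule.mem_top : y ∈ ⊤))
  rw [map_add, C.symm x m, hx m hm, h n hn, neg_zero, add_zero]

/-- Isometries. -/
def isoGroup : Subgroup (V ≃ₗ[F] V) where
  carrier := {a | ∀ x y, C.B (a x) (a y) = C.B x y}
  mul_mem' {a b} ha hb x y := by
    show C.B (a (b x)) (a (b y)) = _
    rw [ha, hb]
  one_mem' _ _ := rfl
  inv_mem' {a} ha x y := by
    show C.B (a.symm x) (a.symm y) = _
    conv_rhs => rw [← a.apply_symm_apply x, ← a.apply_symm_apply y, ha]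

/-- `g` is a commutator of isometries on `M`, supported on `M`. -/
def CommOn (M : Submodule F V) : Prop :=
  ∃ a b : V ≃ₗ[F] V, a ∈ C.isoGroup ∧ b ∈ C.isoGroup ∧
    (∀ x ∈ C.B.orthogonal M, a x = x) ∧ (∀ x ∈ C.B.orthogonal M, b x = x) ∧
    ∀ x ∈ M, C.g x = (a * b * a⁻¹ * b⁻¹) x

omit [FiniteDimensional F V] in
lemma comm_of_commOn_top (h : C.CommOn ⊤) :
    ∃ a b : V ≃ₗ[F] V, a ∈ C.isoGroup ∧ b ∈ C.isoGroup ∧ C.g = a * b * a⁻¹ * b⁻¹ := by
  obtain ⟨a, b, ha, hb, -, -, h⟩ := h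
  exact ⟨a, b, ha, hb, LinearEquiv.ext fun x => h x Submodule.mem_top⟩

lemma maps_mem {M : Submodule F V} (hM : C.Nondeg M) {a : V ≃ₗ[F] V} (ha : a ∈ C.isoGroup)
    (hfix : ∀ x ∈ C.B.orthogonal M, a x = x) {x : V} (hx : x ∈ M) : a x ∈ M := by
  obtain ⟨m, hm, n, hn, hmn⟩ := Submodule.mem_sup.1
    ((C.isCompl_orth hM).sup_eq_top.ge (Submodule.mem_top : a x ∈ ⊤))
  have hn0 : n = 0 := by
    refine (C.nondeg_orth hM) n hn fun y hy => ?_
    have h1 : C.B (a x) y = 0 := by
      rw [← hfix y hy, ha, C.symm, C.isRefl _ _ (hy x hx)]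
      simp
    rw [← hmn, map_add, LinearMap.add_apply, hy m hm, zero_add] at h1
    exact h1
  rw [← hmn, hn0, add_zero]
  exact hm

lemma fix_symm {M : Submodule F V} {a : V ≃ₗ[F] V}
    (hfix : ∀ x ∈ M, a x = x) {x : V} (hx : x ∈ M) : a.symm x = x := by
  conv_lhs => rw [← hfix x hx]
  exact a.symm_apply_apply x

omit [FiniteDimensional F V] in
lemma commOn_bot : C.CommOn ⊥ :=
  ⟨1, 1, one_mem _, one_mem _, fun _ _ => rfl, fun _ _ => rfl, fun x hx => by
    rw [(Submodule.mem_bot F).1 hx]; simp⟩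

lemma CommOn.sup {C : Ctx F V} {M M' : Submodule F V} (hM : C.Nondeg M) (hM' : C.Nondeg M')
    (hor : ∀ x ∈ M, ∀ y ∈ M', C.B x y = 0) (h : C.CommOn M) (h' : C.CommOn M') :
    C.CommOn (M ⊔ M') := by
  obtain ⟨a, b, ha, hb, fa, fb, hc⟩ := h
  obtain ⟨a', b', ha', hb', fa', fb', hc'⟩ := h'
  have o1 : M ≤ C.B.orthogonal M' := fun x hx y hy => by rw [C.symm, hor x hx y hy, neg_zero]
  have o2 : M' ≤ C.B.orthogonal M := fun y hy x hx => hor x hx y hy
  refine ⟨a * a', b * b', mul_mem ha ha', mul_mem hb hb', fun x hx => ?_, fun x hx => ?_, ?_⟩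
  · have h1 : x ∈ C.B.orthogonal M := fun y hy => hx y (Submodule.mem_sup_left hy)
    have h2 : x ∈ C.B.orthogonal M' := fun y hy => hx y (Submodule.mem_sup_right hy)
    show a (a' x) = x
    rw [fa' x h2, fa x h1]
  · have h1 : x ∈ C.B.orthogonal M := fun y hy => hx y (Submodule.mem_sup_left hy)
    have h2 : x ∈ C.B.orthogonal M' := fun y hy => hx y (Submodule.mem_sup_right hy)
    show b (b' x) = x
    rw [fb' x h2, fb x h1]
  intro z hz
  obtain ⟨x, hx, y, hy, rfl⟩ := Submodule.mem_sup.1 hz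
  rw [map_add, map_add]
  congr 1
  · rw [hc x hx]
    show _ = a (a' (b (b' ((a'.symm (a.symm (b'.symm (b.symm x))))))))
    have m1 : b.symm x ∈ M := C.maps_mem hM (inv_mem hb)
      (fun z hz => fix_symm fb hz) hx
    rw [fix_symm fb' (o1 m1)]
    have m2 : a.symm (b.symm x) ∈ M := C.maps_mem hM (inv_mem ha)
      (fun z hz => fix_symm fa hz) m1
    rw [fix_symm fa' (o1 m2), fb' _ (o1 m2)]
    have m3 : b (a.symm (b.symm x)) ∈ M := C.maps_mem hM hb fb m2
    rw [fa' _ (o1 m3)]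
    rfl
  · rw [hc' y hy]
    show _ = a (a' (b (b' ((a'.symm (a.symm (b'.symm (b.symm y))))))))
    rw [fix_symm fb (o2 hy)]
    have m1 : b'.symm y ∈ M' := C.maps_mem hM' (inv_mem hb')
      (fun z hz => fix_symm fb' hz) hy
    rw [fix_symm fa (o2 m1)]
    have m2 : a'.symm (b'.symm y) ∈ M' := C.maps_mem hM' (inv_mem ha')
      (fun z hz => fix_symm fa' hz) m1
    have m3 : b' (a'.symm (b'.symm y)) ∈ M' := C.maps_mem hM' hb' fb' m2
    rw [fb _ (o2 m3)]
    have m4 : a' (b' (a'.symm (b'.symm y))) ∈ M' := C.maps_mem hM' ha' fa' m3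
    rw [fa _ (o2 m4)]
    rfl

/-- The difference vectors. -/
def tv {ι : Type} [Fintype ι] (e : ι → V) (A : Matrix ι ι F) (j : ι) : V :=
  C.g (e j) - ∑ i, A i j • e i

/-- A block datum for the action on `M`. -/
structure Datum (M : Submodule F V) {ι : Type} [Fintype ι] (e : ι → V) (A : Matrix ι ι F) : Prop where
  mem : ∀ i, e i ∈ M
  indep : LinearIndependent F e
  iso : ∀ i j, C.B (e i) (e j) = 0
  card : 2 * Fintype.card ι = finrank F M
  tiso : ∀ i j, C.B (C.tv e A i) (C.tv e A j) = 0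
  disj : ∀ c : ι → F, ∑ j, c j • C.tv e A j ∈ Submodule.span F (Set.range e) →
    ∑ j, c j • C.tv e A j = 0

lemma Datum.tv_mem {C : Ctx F V} {M : Submodule F V} (hS : C.Stable M) {ι : Type} [Fintype ι]
    {e : ι → V} {A : Matrix ι ι F} (D : C.Datum M e A) (j : ι) : C.tv e A j ∈ M :=
  M.sub_mem (hS _ (D.mem j)) (M.sum_mem fun i _ => M.smul_mem _ (D.mem i))

lemma disjoint_of_orth {M M' : Submodule F V} (hM : C.Nondeg M)
    (hor : ∀ x ∈ M, ∀ y ∈ M', C.B x y = 0) : Disjoint M M' := by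
  rw [Submodule.disjoint_def]
  intro x hx hx'
  exact hM x hx fun y hy => by rw [C.symm, hor y hy x hx', neg_zero]

lemma Datum.sum {C : Ctx F V} {M M' : Submodule F V} (hM : C.Nondeg M)
    (hor : ∀ x ∈ M, ∀ y ∈ M', C.B x y = 0) (hS : C.Stable M) (hS' : C.Stable M')
    {ι κ : Type} [Fintype ι] [Fintype κ] {e : ι → V} {A : Matrix ι ι F} {e' : κ → V}
    {A' : Matrix κ κ F} (D : C.Datum M e A) (D' : C.Datum M' e' A') :
    C.Datum (M ⊔ M') (Sum.elim e e') (Matrix.fromBlocks A 0 0 A') := by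
  have hd := C.disjoint_of_orth hM hor
  have htv : ∀ j, C.tv (Sum.elim e e') (Matrix.fromBlocks A 0 0 A') j =
      Sum.elim (C.tv e A) (C.tv e' A') j := by
    rintro (j | j) <;> simp [tv, Fintype.sum_sum_type]
  refine ⟨?_, ?_, ?_, ?_, ?_, ?_⟩
  · rintro (i | i)
    · exact Submodule.mem_sup_left (D.mem i)
    · exact Submodule.mem_sup_right (D'.mem i)
  · apply LinearIndependent.sum_type D.indep D'.indep
    exact hd.mono (Submodule.span_le.2 (by rintro _ ⟨i, rfl⟩; exact D.mem i))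
      (Submodule.span_le.2 (by rintro _ ⟨i, rfl⟩; exact D'.mem i))
  · rintro (i | i) (j | j)
    · exact D.iso i j
    · exact hor _ (D.mem i) _ (D'.mem j)
    · show C.B (e' i) (e j) = 0
      rw [C.symm, hor _ (D.mem j) _ (D'.mem i), neg_zero]
    · exact D'.iso i j
  · have := Submodule.finrank_sup_add_finrank_inf_eq M M'
    rw [hd.eq_bot, finrank_bot, add_zero] at this
    rw [this, ← D.card, ← D'.card, Fintype.card_sum]
    ring
  · intro i j
    rw [htv, htv]
    rcases i with i | i <;> rcases j with j | j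
    · exact D.tiso i j
    · exact hor _ (D.tv_mem hS i) _ (D'.tv_mem hS' j)
    · show C.B (C.tv e' A' i) (C.tv e A j) = 0
      rw [C.symm, hor _ (D.tv_mem hS j) _ (D'.tv_mem hS' i), neg_zero]
    · exact D'.tiso i j
  · intro c hc
    simp only [htv] at hc ⊢
    rw [Fintype.sum_sum_type] at hc ⊢
    simp only [Sum.elim_inl, Sum.elim_inr] at hc ⊢
    rw [Set.Sum.elim_range, Submodule.span_union] at hc
    obtain ⟨x, hx, y, hy, hxy⟩ := Submodule.mem_sup.1 hc
    set p := ∑ j, c (Sum.inl j) • C.tv e A j with hp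
    set p' := ∑ j, c (Sum.inr j) • C.tv e' A' j with hp'
    have hxM : x ∈ M := Submodule.span_le.2 (by rintro _ ⟨i, rfl⟩; exact D.mem i) hx
    have hyM : y ∈ M' := Submodule.span_le.2 (by rintro _ ⟨i, rfl⟩; exact D'.mem i) hy
    have hpM : p ∈ M := M.sum_mem fun i _ => M.smul_mem _ (D.tv_mem hS i)
    have hpM' : p' ∈ M' := M'.sum_mem fun i _ => M'.smul_mem _ (D'.tv_mem hS' i)
    have h0 : p - x = 0 := by
      apply Submodule.disjoint_def.1 hd _ (M.sub_mem hpM hxM)
      rw [show p - x = y - p' by rw [sub_eq_sub_iff_add_eq_add, ← hxy, add_comm]]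
      exact M'.sub_mem hyM hpM'
    have hpx : p = x := sub_eq_zero.1 h0
    have hpy : p' = y := by
      rw [← hpx] at hxy
      exact (add_left_cancel hxy).symm
    have hp0 : p = 0 := D.disj _ (show p ∈ _ from hpx ▸ hx)
    have hp0' : p' = 0 := D'.disj _ (show p' ∈ _ from hpy ▸ hy)
    rw [hp0, hp0', add_zero]

end Ctx

end Cfsg.Agent.Lib.SpCommutator
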