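import Cfsg.Agent.Lib.SpCommutator.Cyclic

/-!
# Splitting off a cyclic piece, or an exceptional primary pair (helper52)
-/

set_option autoImplicit false

namespace Cfsg.Agent.Lib.SpCommutator

open Module Polynomial

universe u

variable {F : Type u} [Field F] {V : Type u} [AddCommGroup V] [Module F V] [FiniteDimensional F V]

namespace Ctx

variable (C : Ctx F V)

/-- `g - l`. -/
noncomputable def NN (l : F) : Module.End F V := C.gl - l • 1

omit [FiniteDimensional F V] in
lemma NN_eq (l : F) : C.NN l = aeval C.gl (X - Polynomial.C l) := by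
  simp [NN, Algebra.algebraMap_eq_smul_one]

/-- The same space with the inverse isometry. -/
def inv : Ctx F V where
  B := C.B
  g := C.g.symm
  alt := C.alt
  nondeg := C.nondeg
  isom := C.isom_symm

omit [FiniteDimensional F V] in
lemma aeval_restrict {M : Submodule F V} (hS : C.Stable M) (p : F[X]) (x : M) :
    ((aeval (C.gl.restrict hS) p x : M) : V) = aeval C.gl p (x : V) := by
  induction p using Polynomial.induction_on generalizing x with
  | C a => simp
  | add p q hp hq => simp [hp, hq]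
  | monomial n a h =>
    rw [pow_succ, ← mul_assoc, map_mul (aeval (C.gl.restrict hS)) (Polynomial.C a * X ^ n) X,
      map_mul (aeval C.gl) (Polynomial.C a * X ^ n) X, aeval_X, aeval_X]
    exact h _

omit [FiniteDimensional F V] in
lemma aeval_comm_apply (T : Module.End F V) (p q : F[X]) (x : V) :
    aeval T p (aeval T q x) = aeval T q (aeval T p x) := by
  rw [← Module.End.mul_apply, ← map_mul, mul_comm p q, map_mul, Module.End.mul_apply]

omit [FiniteDimensional F V] in
lemma socle (T : Module.End F V) {p : F[X]} (hp : Irreducible p) {e : ℕ} {v : V}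
    (hkill : aeval T (p ^ e : F[X]) v = 0) (f : F[X]) (h : aeval T f v ≠ 0) :
    ∃ a : F[X], aeval T a (aeval T f v) = aeval T (p ^ (e - 1) : F[X]) v := by
  have hdiv : ∀ k, ¬ p ^ k ∣ f → ∃ j < k, ∃ f', f = p ^ j * f' ∧ ¬ p ∣ f' := by
    intro k
    induction k with
    | zero => intro h; exact absurd (by rw [pow_zero]; exact one_dvd f) h
    | succ k ih =>
      intro hk
      by_cases hd : p ^ k ∣ f
      · obtain ⟨f', rfl⟩ := hd
        refine ⟨k, k.lt_succ_self, f', rfl, fun hf => hk ?_⟩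
        rw [pow_succ]
        exact mul_dvd_mul_left _ hf
      · obtain ⟨j, hj, hf⟩ := ih hd
        exact ⟨j, hj.trans k.lt_succ_self, hf⟩
  have hne : ¬ p ^ e ∣ f := by
    rintro ⟨s, rfl⟩
    apply h
    rw [mul_comm, map_mul, Module.End.mul_apply, hkill, map_zero]
  obtain ⟨j, hj, f', rfl, hf'⟩ := hdiv e hne
  obtain ⟨a, b, hab⟩ := ((hp.coprime_iff_not_dvd.2 hf').pow_left (m := e)).symm
  refine ⟨p ^ (e - 1 - j) * a, ?_⟩
  rw [← Module.End.mul_apply, ← map_mul,
    show p ^ (e - 1 - j) * a * (p ^ j * f') =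
      p ^ (e - 1) - (p ^ (e - 1) * b) * p ^ e by
      have : p ^ (e - 1) = p ^ (e - 1 - j) * p ^ j := by
        rw [← pow_add]; congr 1; omega
      linear_combination (p ^ (e - 1)) * hab - a * f' * this,
    map_sub, map_mul _ (p ^ (e - 1) * b), LinearMap.sub_apply, Module.End.mul_apply, hkill,
    map_zero, sub_zero]

omit [FiniteDimensional F V] in
lemma cyc_aeval_mem {v x : V} (hx : x ∈ C.cyc v) (q : F[X]) : aeval C.gl q x ∈ C.cyc v :=
  (C.stable_cyc v).aeval_mem q hx

lemma iso_of_coprime {A B : F[X]} (hAB : IsCoprime A B) {x : V} (hA : aeval C.gl A x = 0)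
    (hB : ∀ z, C.B x (aeval C.gl B z) = 0) : ∀ z ∈ C.cyc x, ∀ z' ∈ C.cyc x, C.B z z' = 0 := by
  have key : ∀ h : F[X], C.B x (aeval C.gl h x) = 0 := by
    intro h
    obtain ⟨a, b, hab⟩ := hAB
    have : h = h * a * A + B * (h * b) := by linear_combination -h * hab
    rw [this, map_add, LinearMap.add_apply, map_mul _ (h * a), Module.End.mul_apply, hA,
      map_zero, zero_add, map_mul, Module.End.mul_apply, hB]
  intro z hz z' hz'
  obtain ⟨p, rfl⟩ := C.mem_cyc.1 hz
  rw [C.adj_aeval]
  have : aeval C.gi p z' ∈ C.cyc x := (C.stable_cyc x).aeval_gi_mem p hz'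
  obtain ⟨q, hq⟩ := C.mem_cyc.1 this
  rw [← hq]
  exact key q

omit [FiniteDimensional F V] in
lemma exists_gl_pow_mul (p : F[X]) :
    ∃ (r : F[X]) (n : ℕ), aeval C.gl r = C.gl ^ n * aeval C.gi p := by
  induction p using Polynomial.induction_on with
  | C a => exact ⟨Polynomial.C a, 0, by simp⟩
  | add p q hp hq =>
    obtain ⟨r, n, hr⟩ := hp
    obtain ⟨t, m, ht⟩ := hq
    refine ⟨X ^ m * r + X ^ n * t, n + m, ?_⟩
    simp only [map_add, map_mul, aeval_X_pow, hr, ht, mul_add, ← mul_assoc, ← pow_add]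
    rw [Nat.add_comm m n]
  | monomial n a _ =>
    refine ⟨Polynomial.C a, n + 1, ?_⟩
    rw [map_mul, aeval_X_pow, aeval_C, aeval_C, ← mul_assoc, ← Algebra.commutes, mul_assoc,
      ← C.comm_gl_gi.mul_pow, C.gl_gi, one_pow, mul_one]

omit [FiniteDimensional F V] in
lemma comm_aeval_gl_gi (p q : F[X]) : Commute (aeval C.gl p) (aeval C.gi q) := by
  induction p using Polynomial.induction_on with
  | C a => simpa using Algebra.commute_algebraMap_left a _
  | add p r hp hr => rw [map_add]; exact hp.add_left hr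
  | monomial n a h =>
    rw [pow_succ, ← mul_assoc, map_mul (aeval C.gl) (Polynomial.C a * X ^ n) X, aeval_X]
    refine h.mul_left ?_
    clear h
    induction q using Polynomial.induction_on with
    | C b => simpa using Algebra.commute_algebraMap_right b _
    | add q r hq hr => rw [map_add]; exact hq.add_right hr
    | monomial m b h =>
      rw [pow_succ, ← mul_assoc, map_mul (aeval C.gi) (Polynomial.C b * X ^ m) X, aeval_X]
      exact h.mul_right C.comm_gl_gi

lemma nondeg_cyc_of_top {p : F[X]} (hp : Irreducible p) {e : ℕ} {x : V}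
    (hx : aeval C.gl (p ^ e) x = 0) {h : F[X]}
    (hne : C.B (aeval C.gl (p ^ (e - 1)) x) (aeval C.gl h x) ≠ 0) : C.Nondeg (C.cyc x) := by
  intro z hz hperp
  obtain ⟨f, rfl⟩ := C.mem_cyc.1 hz
  by_contra h0
  obtain ⟨a, ha⟩ := socle C.gl hp hx f h0
  apply hne
  rw [← ha, C.adj_aeval]
  exact hperp _ ((C.stable_cyc x).aeval_gi_mem a (C.cyc_aeval_mem (C.self_mem_cyc x) h))

/-- Either there is a nondegenerate cyclic piece, or a pair of the exceptional kind. -/
theorem split {M : Submodule F V} (hM : C.Nondeg M) (hS : C.Stable M) (hne : M ≠ ⊥) :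
    (∃ v ∈ M, v ≠ 0 ∧ C.Nondeg (C.cyc v)) ∨
    ∃ (l : F) (e : ℕ), l * l = 1 ∧ 1 ≤ e ∧ (-1 : F) ^ (e - 1) = 1 ∧
      ∃ v ∈ M, ∃ y ∈ M, (C.NN l ^ e) v = 0 ∧ (C.NN l ^ e) y = 0 ∧
        C.B ((C.NN l ^ (e - 1)) v) y ≠ 0 ∧
        ∀ x ∈ M, (C.NN l ^ e) x = 0 → ∀ r : F[X],
          C.B ((C.NN l ^ (e - 1)) x) (aeval C.gl r x) = 0 := by
  have hφ : ∀ x ∈ M, C.gl x ∈ M := hS
  set φ : Module.End F M := C.gl.restrict hφ with hφdef
  set P := minpoly F φ with hP
  have hint : IsIntegral F φ := Algebra.IsIntegral.isIntegral φ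
  have hkill : ∀ x ∈ M, aeval C.gl P x = 0 := fun x hx => by
    rw [← C.aeval_restrict hS P ⟨x, hx⟩]
    show ((aeval φ (minpoly F φ) ⟨x, hx⟩ : M) : V) = 0
    rw [minpoly.aeval]
    rfl
  have hdvd : ∀ r : F[X], (∀ x ∈ M, aeval C.gl r x = 0) → P ∣ r := fun r hr =>
    minpoly.dvd F φ (LinearMap.ext fun x => Subtype.ext (by
      show ((aeval φ r x : M) : V) = 0
      rw [hφdef, C.aeval_restrict hS r x]
      exact hr _ x.2))
  have : Nontrivial M := Submodule.nontrivial_iff_ne_bot.2 hne
  obtain ⟨p, hpm, hpi, hpP⟩ := Polynomial.exists_monic_irreducible_factor P (minpoly.not_isUnit F φ)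
  have hP0 : P ≠ 0 := minpoly.ne_zero hint
  obtain ⟨e, Q, hQ, hPQ⟩ := WfDvdMonoid.max_power_factor hP0 hpi
  have he : 1 ≤ e := by
    by_contra h
    have : e = 0 := by omega
    rw [this, pow_zero, one_mul] at hPQ
    exact hQ (hPQ ▸ hpP)
  have hpe : p ^ e = p * p ^ (e - 1) := by rw [← pow_succ']; congr 1; omega
  obtain ⟨x0, hx0, hx0'⟩ : ∃ x ∈ M, aeval C.gl (p ^ (e - 1) * Q) x ≠ 0 := by
    by_contra h
    push Not at h
    have h' := hdvd _ h
    rw [hPQ, hpe, mul_assoc] at h'
    have hQ0 : p ^ (e - 1) * Q ≠ 0 := by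
      intro h0; exact hP0 (by rw [hPQ, hpe, mul_assoc, h0, mul_zero])
    exact hpi.not_isUnit (isUnit_of_dvd_one
      ((mul_dvd_mul_iff_right hQ0).1 (by rwa [one_mul])))
  set v := aeval C.gl Q x0 with hv
  have hvM : v ∈ M := hS.aeval_mem Q hx0
  set v'' := aeval C.gl (p ^ (e - 1)) v with hv''
  have hv''0 : v'' ≠ 0 := by
    rwa [hv'', hv, ← Module.End.mul_apply, ← map_mul]
  have hv''M : v'' ∈ M := hS.aeval_mem _ hvM
  have hkv : aeval C.gl (p ^ e) v = 0 := by
    rw [hv, ← Module.End.mul_apply, ← map_mul, ← hPQ]; exact hkill x0 hx0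
  have hkv'' : aeval C.gl (p ^ e) v'' = 0 := by
    rw [hv'', aeval_comm_apply, hkv, map_zero]
  obtain ⟨y0, hy0, hy0'⟩ : ∃ y ∈ M, C.B v'' y ≠ 0 := by
    by_contra h
    push Not at h
    exact hv''0 (hM v'' hv''M h)
  obtain ⟨c, a, hca⟩ := ((hpi.coprime_iff_not_dvd.2 hQ).pow_left (m := e)).symm
  obtain ⟨r, n, hr⟩ := C.exists_gl_pow_mul p
  have hre : ∀ k : ℕ, aeval C.gl (r ^ k) = C.gl ^ (n * k) * aeval C.gi (p ^ k) := fun k => by
    rw [map_pow, hr, map_pow, pow_mul]
    have hc : Commute (C.gl ^ n) (aeval C.gi p) := by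
      have := C.comm_aeval_gl_gi (X ^ n) p
      rwa [aeval_X_pow] at this
    exact hc.mul_pow k
  have hre' : ∀ k : ℕ, aeval C.gl (r ^ k) = aeval C.gi (p ^ k) * C.gl ^ (n * k) := fun k => by
    rw [hre, ← aeval_X_pow (R := F) C.gl]
    exact (C.comm_aeval_gl_gi _ _).eq
  by_cases hpr : p ∣ r
  swap
  · left
    set y := aeval C.gi (c * Q) y0 with hy
    have hyM : y ∈ M := hS.aeval_gi_mem _ hy0
    have hvy : C.B v'' y ≠ 0 := by
      rw [hy, ← C.adj_aeval]
      have : aeval C.gl (c * Q) v'' = v'' := by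
        rw [show c * Q = 1 - a * p ^ e by linear_combination hca, map_sub, map_one,
          LinearMap.sub_apply, map_mul, Module.End.mul_apply, hkv'', map_zero, sub_zero]
        rfl
      rwa [this]
    have hky : aeval C.gi (p ^ e) y = 0 := by
      have hPi : aeval C.gi P y0 = 0 := hM _ (hS.aeval_gi_mem P hy0) fun z hz => by
        rw [C.adj_aeval', C.symm, C.adj_aeval, ← C.adj_aeval, hkill z hz]
        simp
      rw [hy, ← Module.End.mul_apply, ← map_mul, show p ^ e * (c * Q) = c * P by rw [hPQ]; ring,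
        map_mul, Module.End.mul_apply, hPi, map_zero]
    have hcop : IsCoprime (p ^ e) (r ^ e) := (hpi.coprime_iff_not_dvd.2 hpr).pow
    have hky' : aeval C.gl (r ^ e) y = 0 := by
      rw [hre, Module.End.mul_apply, hky, map_zero]
    have iv := C.iso_of_coprime hcop hkv fun z => by
      rw [hre', Module.End.mul_apply, ← C.adj_aeval, hkv]
      simp
    have iy := C.iso_of_coprime hcop.symm hky' fun z => by
      rw [← C.adj_aeval', hky]
      simp
    set u := v + y with hu
    have hmv : v ∈ C.cyc u ∧ y ∈ C.cyc u := by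
      obtain ⟨b, d, hbd⟩ := hcop
      have h1 : aeval C.gl (d * r ^ e) u = v := by
        rw [hu, map_add, map_mul, Module.End.mul_apply, Module.End.mul_apply, hky', map_zero,
          add_zero, ← Module.End.mul_apply, ← map_mul,
          show d * r ^ e = 1 - b * p ^ e by linear_combination hbd, map_sub, map_mul, map_one,
          LinearMap.sub_apply, Module.End.mul_apply, hkv, map_zero, sub_zero]
        rfl
      have hvU : v ∈ C.cyc u := h1 ▸ C.cyc_aeval_mem (C.self_mem_cyc u) _
      refine ⟨hvU, ?_⟩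
      have := (C.cyc u).sub_mem (C.self_mem_cyc u) hvU
      rwa [hu, add_sub_cancel_left] at this
    refine ⟨u, M.add_mem hvM hyM, fun h0 => ?_, ?_⟩
    · have hu0 : C.cyc u = ⊥ := le_bot_iff.1 (C.cyc_le (M := ⊥) (by
        intro z hz; rw [Submodule.mem_bot] at hz ⊢; rw [hz, map_zero]) (by simp [h0]))
      have := hmv.1
      rw [hu0, Submodule.mem_bot] at this
      exact hv''0 (by rw [hv'', this, map_zero])
    intro z hz hperp
    obtain ⟨f, rfl⟩ := C.mem_cyc.1 hz
    have hUs := C.stable_cyc u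
    have hx1 : aeval C.gl f v = 0 := by
      by_contra h0
      obtain ⟨b, hb⟩ := socle C.gl hpi hkv f h0
      apply hvy
      rw [hv'', ← hb, C.adj_aeval]
      have h1 := hperp _ (hUs.aeval_gi_mem b hmv.2)
      rw [hu, map_add, map_add, LinearMap.add_apply,
        iy _ (C.cyc_aeval_mem (C.self_mem_cyc y) f) _
          ((C.stable_cyc y).aeval_gi_mem b (C.self_mem_cyc y)), add_zero] at h1
      exact h1
    rw [hu, map_add, hx1, zero_add] at hperp ⊢
    by_contra h0
    have hst : C.Stable (C.inv.cyc y) := fun x hx => by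
      have := (C.inv.stable_cyc y).inv_mem hx
      exact this
    obtain ⟨f', hf'⟩ := (C.inv.mem_cyc).1 (hst.aeval_mem f (C.inv.self_mem_cyc y))
    have hf'' : aeval C.gi f' y = aeval C.gl f y := hf'
    obtain ⟨b, hb⟩ := socle C.gi hpi hky f' (by rwa [hf''])
    apply hvy
    rw [hv'', C.adj_aeval, ← hb, hf'', ← C.adj_aeval, C.symm,
      hperp _ (hUs.aeval_mem b hmv.1), neg_zero]
  obtain ⟨s, hs⟩ := hpr
  have hker : ∀ x, aeval C.gl (p ^ e) x = 0 → aeval C.gi (p ^ e) x = 0 := by
    intro x hx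
    have h1 : aeval C.gl (r ^ e) x = 0 := by
      rw [hs, mul_pow, mul_comm, map_mul, Module.End.mul_apply, hx, map_zero]
    rw [hre, Module.End.mul_apply] at h1
    have hinj : Function.Injective ((C.gl ^ (n * e) : Module.End F V)) := by
      rw [Module.End.coe_pow]
      exact Function.Injective.iterate C.g.injective _
    exact hinj (h1.trans (map_zero _).symm)
  set y := aeval C.gl (c * Q) y0 with hy
  have hyM : y ∈ M := hS.aeval_mem _ hy0
  have hky : aeval C.gl (p ^ e) y = 0 := by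
    rw [hy, ← Module.End.mul_apply, ← map_mul, show p ^ e * (c * Q) = c * P by rw [hPQ]; ring,
      map_mul, Module.End.mul_apply, hkill y0 hy0, map_zero]
  have hvy : C.B v'' y ≠ 0 := by
    rw [hy, ← C.adj_aeval']
    have h1 : aeval C.gi (c * Q) v'' = v'' := by
      rw [show c * Q = 1 - a * p ^ e by linear_combination hca, map_sub, map_one,
        LinearMap.sub_apply, map_mul, Module.End.mul_apply, hker v'' ?_, map_zero, sub_zero]
      · rfl
      · exact hkv''
    rwa [h1]
  by_cases hcy : ∃ x ∈ M, aeval C.gl (p ^ e) x = 0 ∧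
      ∃ h : F[X], C.B (aeval C.gl (p ^ (e - 1)) x) (aeval C.gl h x) ≠ 0
  · left
    obtain ⟨x, hx, hxe, h, hh⟩ := hcy
    refine ⟨x, hx, fun h0 => hh ?_, C.nondeg_cyc_of_top hpi hxe hh⟩
    simp [h0]
  push Not at hcy
  have hbr : ∀ h : F[X], aeval C.gi (p ^ (e - 1)) (aeval C.gl h v) =
      aeval C.gi h (aeval C.gl (p ^ (e - 1)) v) := by
    intro h
    rw [← sub_eq_zero]
    set z := aeval C.gi (p ^ (e - 1)) (aeval C.gl h v) -
      aeval C.gi h (aeval C.gl (p ^ (e - 1)) v) with hz
    have hzM : z ∈ M := M.sub_mem (hS.aeval_gi_mem _ (hS.aeval_mem h hvM))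
      (hS.aeval_gi_mem _ (hS.aeval_mem _ hvM))
    have hzk : aeval C.gl (p ^ e) z = 0 := by
      rw [hz, map_sub, ← Module.End.mul_apply (aeval C.gl (p ^ e)) (aeval C.gi (p ^ (e - 1))),
        ← Module.End.mul_apply (aeval C.gl (p ^ e)) (aeval C.gi h),
        (C.comm_aeval_gl_gi _ _).eq, (C.comm_aeval_gl_gi _ _).eq, Module.End.mul_apply,
        Module.End.mul_apply, aeval_comm_apply C.gl _ h, hkv,
        aeval_comm_apply C.gl _ (p ^ (e - 1)), hkv]
      simp
    have hK : ∀ x ∈ M, aeval C.gl (p ^ e) x = 0 → C.B x z = 0 := by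
      intro x hx hxe
      have h2 := hcy (x + v) (M.add_mem hx hvM) (by rw [map_add, hxe, hkv, add_zero]) h
      simp only [map_add, LinearMap.add_apply, hcy x hx hxe h, hcy v hvM hkv h, zero_add,
        add_zero] at h2
      rw [C.adj_aeval (p ^ (e - 1)) x, C.symm (aeval C.gl (p ^ (e - 1)) v),
        C.adj_aeval h x] at h2
      rw [hz, map_sub]
      linear_combination h2
    refine hM z hzM fun x hx => ?_
    rw [C.symm, neg_eq_zero]
    have hx' : x = aeval C.gl (c * Q) x + aeval C.gl (p ^ e) (aeval C.gl a x) := by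
      rw [← Module.End.mul_apply, ← map_mul, ← LinearMap.add_apply, ← map_add,
        show c * Q + p ^ e * a = 1 by linear_combination hca, map_one]
      rfl
    rw [hx', map_add, LinearMap.add_apply, C.adj_aeval (p ^ e), hker z hzk, map_zero, add_zero]
    refine hK _ (hS.aeval_mem _ hx) ?_
    rw [← Module.End.mul_apply, ← map_mul, show p ^ e * (c * Q) = c * P by rw [hPQ]; ring,
      map_mul, Module.End.mul_apply, hkill x hx, map_zero]
  have hb1 : aeval C.gi (p ^ (e - 1)) v = v'' := by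
    have := hbr 1
    simpa [hv''] using this
  have hb2 : C.gl (C.gl v'') = v'' := by
    have := hbr X
    have hc := C.comm_aeval_gl_gi X (p ^ (e - 1))
    rw [aeval_X] at hc
    rw [aeval_X, aeval_X, ← Module.End.mul_apply, ← hc.eq, Module.End.mul_apply, hb1] at this
    rw [hv''] at this ⊢
    conv_lhs => rw [this]
    exact C.g.apply_symm_apply _
  have hpv : aeval C.gl p v'' = 0 := by
    rw [hv'', ← Module.End.mul_apply, ← map_mul, ← hpe]; exact hkv
  obtain ⟨l, hl, rfl⟩ : ∃ l : F, l * l = 1 ∧ p = X - Polynomial.C l := by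
    have hd : p ∣ X ^ 2 - 1 := by
      by_contra hd
      obtain ⟨b, d, hbd⟩ := hpi.coprime_iff_not_dvd.2 hd
      apply hv''0
      have := LinearMap.congr_fun (congrArg (aeval C.gl) hbd) v''
      simp [hpv, hb2, pow_two] at this
      exact this.symm
    rw [show (X ^ 2 - 1 : F[X]) = (X - Polynomial.C 1) * (X - Polynomial.C (-1)) by
      simp; ring] at hd
    rcases hpi.prime.dvd_or_dvd hd with h | h
    · exact ⟨1, one_mul 1, eq_of_monic_of_associated hpm (monic_X_sub_C 1)
        (hpi.associated_of_dvd (irreducible_X_sub_C 1) h)⟩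
    · exact ⟨-1, by ring, eq_of_monic_of_associated hpm (monic_X_sub_C (-1))
        (hpi.associated_of_dvd (irreducible_X_sub_C (-1)) h)⟩
  right
  have hN : ∀ k, aeval C.gl ((X - Polynomial.C l) ^ k) = C.NN l ^ k := fun k => by
    rw [map_pow, ← C.NN_eq]
  simp only [hN] at hkv hky hcy
  have hv''N : v'' = (C.NN l ^ (e - 1)) v := by rw [hv'', hN]
  refine ⟨l, e, hl, he, ?_, v, hvM, y, hyM, hkv, hky, hv''N ▸ hvy, hcy⟩
  have hgv : C.gl v'' = l • v'' := by
    rw [← C.NN_eq] at hpv
    simpa [NN, sub_eq_zero] using hpv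
  have hgiv : C.gi v'' = l • v'' := by
    have := congrArg C.gi hgv
    rw [map_smul, ← Module.End.mul_apply, C.gi_gl] at this
    have := congrArg (l • ·) this
    simp only [smul_smul, hl, one_smul] at this
    exact this.symm
  have hfac : aeval C.gi (X - Polynomial.C l) = (-l) • (C.gi * C.NN l) := by
    rw [map_sub, aeval_X, aeval_C, Algebra.algebraMap_eq_smul_one, NN, mul_sub, C.gi_gl,
      mul_smul_comm, mul_one, smul_sub, smul_smul, neg_mul, hl]
    module
  have hgiN : Commute C.gi (C.NN l) :=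
    (C.comm_gl_gi.symm).sub_right ((Commute.one_right _).smul_right l)
  have hgp : ∀ k : ℕ, (C.gi ^ k) v'' = (l ^ k) • v'' := by
    intro k
    induction k with
    | zero => simp
    | succ k ih => rw [pow_succ, Module.End.mul_apply, hgiv, map_smul, ih, smul_smul, pow_succ']
  rw [map_pow, hfac, _root_.smul_pow, LinearMap.smul_apply, hgiN.mul_pow, Module.End.mul_apply,
    ← hv''N, hgp, smul_smul, ← mul_pow, neg_mul, hl] at hb1
  have := sub_eq_zero.2 hb1
  rw [← one_smul F v'', smul_smul, mul_one, ← sub_smul] at this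
  exact sub_eq_zero.1 ((smul_eq_zero.1 this).resolve_right hv''0)

end Ctx

end Cfsg.Agent.Lib.SpCommutator
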