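import Cfsg.Agent.Lib.SpCommutator.Normal
import Cfsg.Agent.Lib.SpCommutator.Iso

/-!
# The exceptional pieces are commutators (helper52)
-/

set_option autoImplicit false

namespace Cfsg.Agent.Lib.SpCommutator

open Module Polynomial

universe u

variable {F : Type u} [Field F] {V : Type u} [AddCommGroup V] [Module F V] [FiniteDimensional F V]

namespace Ctx

variable {C : Ctx F V} {f : ℕ} {v w : V}

/-- The bilinear pairing of polynomials. -/
noncomputable def beta (C : Ctx F V) (v w : V) (p q : F[X]) : F :=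
  C.B (aeval C.gl p v) (aeval C.gl q w)

/-- Coordinates by pairs of polynomials. -/
noncomputable def param (C : Ctx F V) (v w : V) : F[X] × F[X] →ₗ[F] V :=
  (((LinearMap.applyₗ v).comp (aeval C.gl).toLinearMap).comp (LinearMap.fst F _ _)) +
    (((LinearMap.applyₗ w).comp (aeval C.gl).toLinearMap).comp (LinearMap.snd F _ _))

omit [FiniteDimensional F V] in
lemma param_apply (h : F[X] × F[X]) :
    C.param v w h = aeval C.gl h.1 v + aeval C.gl h.2 w := rfl

lemma IsNormal.param_surjective (H : C.BadTop f) (P : C.IsNormal f v w) :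
    Function.Surjective (C.param v w) := by
  rw [← LinearMap.range_eq_top]
  have hs : C.Stable (LinearMap.range (C.param v w)) := by
    rintro _ ⟨h, rfl⟩
    exact ⟨(X * h.1, X * h.2), by simp [param_apply, gl_apply]⟩
  have hv : v ∈ LinearMap.range (C.param v w) := ⟨(1, 0), by simp [param_apply]⟩
  have hw : w ∈ LinearMap.range (C.param v w) := ⟨(0, 1), by simp [param_apply]⟩
  have hle : C.pairU (-1) (2 * f + 1) v w ≤ LinearMap.range (C.param v w) := by
    refine Submodule.span_le.2 ?_
    rintro _ ⟨i | i, rfl⟩ <;>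
      simp only [Sum.elim_inl, Sum.elim_inr, SetLike.mem_coe, TT_apply] <;>
      rw [← aeval_X_pow (R := F) C.gi, show C.NN (-1) ^ (i : ℕ) =
        aeval C.gl ((X - Polynomial.C (-1 : F)) ^ (i : ℕ)) by rw [map_pow, ← C.NN_eq]]
    · exact hs.aeval_gi_mem _ (hs.aeval_mem _ hv)
    · exact hs.aeval_gi_mem _ (hs.aeval_mem _ hw)
  have htop : C.pairU (-1) (2 * f + 1) v w = ⊤ := by
    apply Submodule.eq_top_of_finrank_eq
    rw [P.pair.finrank_pairU, H.dim]
  rw [htop] at hle
  exact top_le_iff.1 hle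

omit [FiniteDimensional F V] in
lemma exists_gamma (F : Type u) [Field F] (V : Type u) [AddCommGroup V] [Module F V] (f : ℕ) :
    ∃ γ : F[X], ∀ T : Module.End F V, (T + 1) ^ (2 * f + 1) = 0 → T * aeval T γ = 1 := by
  have hX : ¬ (X : F[X]) ∣ (X - Polynomial.C (-1 : F)) := by
    rw [X_dvd_iff]; simp
  obtain ⟨a, b, hab⟩ :=
    (irreducible_X.coprime_iff_not_dvd.2 hX).pow_right (n := 2 * f + 1)
  refine ⟨a, fun T hT => ?_⟩
  have h := congrArg (aeval T) hab
  rw [mul_comm a] at h
  simp only [map_add, map_mul, map_pow, map_sub, aeval_X, aeval_C, map_neg, map_one,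
    sub_neg_eq_add, hT, mul_zero, add_zero] at h
  exact h

omit [FiniteDimensional F V] in
lemma gl_add_one : C.gl + 1 = C.NN (-1) := by simp [NN]

omit [FiniteDimensional F V] in
lemma BadTop.gi_gamma (H : C.BadTop f) {γ : F[X]}
    (hγ : ∀ T : Module.End F V, (T + 1) ^ (2 * f + 1) = 0 → T * aeval T γ = 1) :
    aeval C.gl γ = C.gi ∧ aeval C.gi γ = C.gl := by
  have h0 : C.NN (-1) ^ (2 * f + 1) = 0 := LinearMap.ext H.kill
  have h1 := hγ C.gl (by rw [gl_add_one, h0])
  have e : C.gi + 1 = C.gi * C.NN (-1) := by rw [← gl_add_one, mul_add, C.gi_gl, mul_one, add_comm]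
  have h2 := hγ C.gi (by rw [e, (C.comm_gi_NN _).mul_pow, h0, mul_zero])
  constructor
  · calc aeval C.gl γ = C.gi * (C.gl * aeval C.gl γ) := by rw [← mul_assoc, C.gi_gl, one_mul]
      _ = C.gi := by rw [h1, mul_one]
  · calc aeval C.gi γ = C.gl * (C.gi * aeval C.gi γ) := by rw [← mul_assoc, C.gl_gi, one_mul]
      _ = C.gl := by rw [h2, mul_one]

/-- `-g²`. -/
noncomputable def sg (C : Ctx F V) : Module.End F V := -(C.gl ^ 2)

omit [FiniteDimensional F V] in
lemma sg_eq : C.sg = aeval C.gl (-(X ^ 2) : F[X]) := by simp [sg]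

omit [FiniteDimensional F V] in
lemma aeval_sg (p : F[X]) : aeval C.sg p = aeval C.gl (p.comp (-(X ^ 2))) := by
  rw [aeval_comp, sg_eq]

omit [FiniteDimensional F V] in
lemma sg_add_one : C.sg + 1 = (1 - C.gl) * C.NN (-1) := by
  rw [NN, sub_mul, one_mul, mul_sub, mul_smul_comm, mul_one, sg, pow_two]
  module

lemma IsNormal.rep [Finite F] (H : C.BadTop f) (P : C.IsNormal f v w) :
    ∃ k : F[X], ∀ r : F[X], C.B v (aeval C.gl (r * k) w) = C.B v (aeval C.sg r w) := by
  set N := C.NN (-1) with hN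
  set e := 2 * f + 1 with he
  let φ : (Fin e → F) →ₗ[F] (Fin e → F) := LinearMap.pi fun j =>
    ((C.B v).comp (N ^ (j : ℕ))).comp
      (Fintype.linearCombination F (fun i : Fin e => (N ^ (i : ℕ)) w))
  have hφ : ∀ c j, φ c j = C.B v ((N ^ (j : ℕ)) (∑ i : Fin e, c i • (N ^ (i : ℕ)) w)) :=
    fun c j => by simp [φ, Fintype.linearCombination_apply]
  have hinj : Function.Injective φ := by
    rw [← LinearMap.ker_eq_bot, LinearMap.ker_eq_bot']
    intro c hc
    suffices h : ∀ i (hi : i < e), c ⟨i, hi⟩ = 0 from funext fun i => h i i.2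
    intro i
    induction i using Nat.strong_induction_on with
    | h i ih =>
      intro hi
      have h := congrFun hc ⟨e - 1 - i, by omega⟩
      rw [hφ, map_sum, map_sum, Finset.sum_eq_single ⟨i, hi⟩] at h
      · simp only [map_smul, smul_eq_mul] at h
        rw [← Module.End.mul_apply, ← pow_add, show e - 1 - i + i = e - 1 by omega] at h
        exact (mul_eq_zero.1 h).resolve_right P.pair.ne
      · intro j _ hj
        rcases lt_or_gt_of_ne (fun h : (j : ℕ) = i => hj (Fin.ext h)) with h' | h'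
        · rw [show c j = 0 from ih j h' j.2, zero_smul, map_zero, map_zero]
        · rw [map_smul, ← Module.End.mul_apply, ← pow_add,
            C.NN_pow_eq_zero (H.kill w) (by simp; omega), smul_zero, map_zero]
      · intro h; exact absurd (Finset.mem_univ _) h
  obtain ⟨c, hc⟩ := LinearMap.injective_iff_surjective.1 hinj
    fun j => C.B v (((C.sg + 1) ^ (j : ℕ)) w)
  set k : F[X] := ∑ i : Fin e, Polynomial.C (c i) * (X - Polynomial.C (-1 : F)) ^ (i : ℕ) with hk
  have hkw : aeval C.gl k w = ∑ i : Fin e, c i • (N ^ (i : ℕ)) w := by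
    rw [hk, map_sum, LinearMap.sum_apply]
    refine Finset.sum_congr rfl fun i _ => ?_
    rw [map_mul, map_pow, ← C.NN_eq, aeval_C, Module.End.mul_apply, Module.algebraMap_end_apply]
  have hj : ∀ j : ℕ, C.B v ((N ^ j) (aeval C.gl k w)) = C.B v (((C.sg + 1) ^ j) w) := by
    intro j
    by_cases h : j < e
    · rw [hkw, ← hφ c ⟨j, h⟩, hc]
    · have hcm : Commute (1 - C.gl) N :=
        (Commute.one_left _).sub_left ((Commute.refl C.gl).sub_right
          ((Commute.one_right _).smul_right _))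
      rw [sg_add_one, hcm.mul_pow, Module.End.mul_apply, C.NN_pow_eq_zero (H.kill w) (by omega),
        C.NN_pow_eq_zero (H.kill _) (by omega)]
      simp
  have hs : ∀ s : F[X], C.B v (aeval N s (aeval C.gl k w)) = C.B v (aeval (C.sg + 1) s w) := by
    intro s
    induction s using Polynomial.induction_on' with
    | add p q hp hq => simp [hp, hq]
    | monomial n a =>
      simp only [aeval_monomial, Module.End.mul_apply, Module.algebraMap_end_apply, map_smul, hj]
  refine ⟨k, fun r => ?_⟩
  have h := hs (r.comp (X + Polynomial.C (-1 : F)))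
  rw [aeval_comp, aeval_comp] at h
  have e1 : aeval N (X + Polynomial.C (-1 : F)) = C.gl := by
    simp [hN, NN, Algebra.algebraMap_eq_smul_one]
  have e2 : aeval (C.sg + 1) (X + Polynomial.C (-1 : F)) = C.sg := by
    simp [Algebra.algebraMap_eq_smul_one]
  rw [e1, e2, ← Module.End.mul_apply, ← map_mul] at h
  exact h

omit [FiniteDimensional F V] in
lemma aeval_comp_gamma {γ : F[X]} (hγ : aeval C.gl γ = C.gi ∧ aeval C.gi γ = C.gl) (a q : F[X]) :
    aeval C.gi (a.comp γ * q) = aeval C.gl (q.comp γ * a) := by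
  rw [map_mul, aeval_comp, hγ.2, mul_comm (q.comp γ), map_mul, aeval_comp, hγ.1]

lemma IsNormal.eq_zero (H : C.BadTop f) (P : C.IsNormal f v w) {γ : F[X]}
    (hγ : aeval C.gl γ = C.gi ∧ aeval C.gi γ = C.gl) {a : F[X]}
    (h : ∀ r : F[X], C.B v (aeval C.gl (r * a) w) = 0) : aeval C.gl a = 0 := by
  have hgi : ∀ p : F[X], aeval C.gi p = aeval C.gl (p.comp γ) := fun p => by
    rw [aeval_comp, hγ.1]
  have hs := P.param_surjective H
  have haw : aeval C.gl a w = 0 := C.nondeg _ fun y => by
    obtain ⟨⟨p, q⟩, rfl⟩ := hs y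
    have hw0 : C.B (aeval C.gl a w) (aeval C.gl q w) = 0 := by
      rw [C.adj_aeval]
      exact P.isow _ ((C.stable_TTspan w).aeval_gi_mem _
        ((C.stable_TTspan w).aeval_mem _ (C.self_mem_TTspan w)))
    rw [param_apply, map_add, hw0, add_zero, C.symm, C.adj_aeval, hgi, ← Module.End.mul_apply,
      ← map_mul, h, neg_zero]
  have hav : aeval C.gl a v = 0 := C.nondeg _ fun y => by
    obtain ⟨⟨p, q⟩, rfl⟩ := hs y
    have hv0 : C.B (aeval C.gl a v) (aeval C.gl p v) = 0 := by
      rw [C.adj_aeval]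
      exact P.isov _ ((C.stable_TTspan v).aeval_gi_mem _
        ((C.stable_TTspan v).aeval_mem _ (C.self_mem_TTspan v)))
    rw [param_apply, map_add, hv0, zero_add, C.adj_aeval, ← Module.End.mul_apply,
      hgi, ← map_mul, P.symm, aeval_comp_gamma hγ, h]
  apply LinearMap.ext
  intro x
  obtain ⟨⟨p, q⟩, rfl⟩ := hs x
  rw [param_apply, map_add, aeval_comm_apply, hav, aeval_comm_apply _ a, haw]
  simp

theorem BadTop.commOn [Finite F] (H : C.BadTop f) : C.CommOn ⊤ := by
  classical
  obtain ⟨v, w, P⟩ := H.exists_normal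
  obtain ⟨γ, hγT⟩ := exists_gamma F V f
  have hγ := H.gi_gamma hγT
  obtain ⟨k, hk⟩ := P.rep H
  set G : F[X] →ₐ[F] Module.End F V := aeval C.gl with hG
  have hgi : ∀ p : F[X], aeval C.gi p = G (p.comp γ) := fun p => by rw [hG, aeval_comp, hγ.1]
  have hγγ : ∀ p : F[X], G ((p.comp γ).comp γ) = G p := fun p => by
    rw [hG, aeval_comp, aeval_comp, hγ.1, hγ.2]
  let L : F[X] → F := fun r => C.B v (G r w)
  have hLdef : ∀ r, L r = C.B v (G r w) := fun _ => rfl
  have hsym : ∀ r, L (r.comp γ) = L r := fun r => by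
    rw [hLdef, hLdef, ← hgi]
    exact (P.symm r).symm
  have hkL : ∀ r : F[X], L (r * k) = L (r.comp (-(X ^ 2))) := fun r => by
    rw [hLdef, hLdef, hG, hk, aeval_sg]
  have hN0 : C.NN (-1) ^ (2 * f + 1) = 0 := LinearMap.ext H.kill
  have hsgγ : aeval C.sg γ = -(C.gi ^ 2) := by
    have hcm : Commute (1 - C.gl) (C.NN (-1)) :=
      (Commute.one_left _).sub_left ((Commute.refl C.gl).sub_right
        ((Commute.one_right _).smul_right _))
    have h1 := hγT C.sg (by rw [sg_add_one, hcm.mul_pow, hN0, mul_zero])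
    have h2 : -(C.gi ^ 2) * C.sg = 1 := by
      rw [sg, neg_mul_neg, pow_two, pow_two, mul_assoc, ← mul_assoc C.gi C.gl, C.gi_gl, one_mul,
        C.gi_gl]
    calc aeval C.sg γ = -(C.gi ^ 2) * C.sg * aeval C.sg γ := by rw [h2, one_mul]
      _ = -(C.gi ^ 2) := by rw [mul_assoc, h1, mul_one]
  have hσγ : ∀ r : F[X], G ((r.comp γ).comp (-(X ^ 2))) = G ((r.comp (-(X ^ 2))).comp γ) := by
    intro r
    rw [← hgi, hG, ← aeval_sg, aeval_comp, hsgγ, aeval_comp]
    simp
  have hLG : ∀ p q, G p = G q → L p = L q := fun p q h => by rw [hLdef, hLdef, h]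
  have hkγ : ∀ r, L (r.comp γ * k) = L (r * k) := fun r => by
    rw [hkL, hkL, hLG _ _ (hσγ r), hsym]
  have hks : G (k.comp γ) = G k := by
    have h0 : aeval C.gl (k.comp γ - k) = 0 := by
      refine P.eq_zero H hγ fun r => ?_
      show L (r * (k.comp γ - k)) = 0
      have e1 : L (r * k.comp γ) = L (r * k) := by
        rw [← hkγ r, ← hsym (r.comp γ * k)]
        refine hLG _ _ ?_
        rw [mul_comp, map_mul, map_mul, hγγ]
      rw [mul_sub, hLdef, map_sub, LinearMap.sub_apply, map_sub, ← hLdef, ← hLdef, e1, sub_self]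
    rwa [map_sub, sub_eq_zero] at h0
  set p := ringChar F with hpdef
  have : CharP F p := ringChar.charP F
  have hp : p.Prime := CharP.char_is_prime F p
  have : Fact p.Prime := ⟨hp⟩
  have hp2 : p ≠ 2 := fun h => H.two (by
    have := CharP.cast_eq_zero F p
    rw [h] at this
    exact_mod_cast this)
  set Q := p ^ (2 * f + 1) with hQ
  have hQe : 2 * f + 1 ≤ Q := (Nat.lt_pow_self hp.one_lt).le
  obtain ⟨Q', hQ'⟩ : Odd Q := (hp.odd_of_ne_two hp2).pow
  set μ : F[X] := X - Polynomial.C (-1 : F) with hμ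
  have hGμ : G μ = C.NN (-1) := (C.NN_eq _).symm
  set c : F := k.eval (-1) with hc
  obtain ⟨k', hk'⟩ : μ ∣ k - Polynomial.C c := by
    rw [hμ, dvd_iff_isRoot]; simp [hc]
  have hkQ : G (k ^ Q) = G (Polynomial.C (c ^ Q)) := by
    have h := sub_pow_char_pow (R := F[X]) (p := p) (n := 2 * f + 1) k (Polynomial.C c)
    rw [hk', ← map_pow Polynomial.C] at h
    have h0 : G ((μ * k') ^ Q) = 0 := by
      rw [mul_pow, map_mul, map_pow, hGμ, ← Nat.sub_add_cancel hQe, pow_add, hN0, mul_zero,
        zero_mul]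
    rw [h, map_sub, sub_eq_zero] at h0
    exact h0
  have hc4 : c = 2 ^ (2 * f) := by
    have hne : L (μ ^ (2 * f)) ≠ 0 := by
      rw [hLdef, map_pow, hGμ]
      simpa using P.pair.ne
    have h1 : L (μ ^ (2 * f) * k) = c * L (μ ^ (2 * f)) := by
      rw [show k = Polynomial.C c + μ * k' by rw [← hk']; ring, hLdef, hLdef, mul_add, map_add,
        LinearMap.add_apply, map_add, mul_comm (μ ^ (2 * f)) (Polynomial.C c), map_mul,
        aeval_C, Module.End.mul_apply, Module.algebraMap_end_apply, map_smul, ← mul_assoc,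
        map_mul, Module.End.mul_apply, ← pow_succ, map_pow G μ (2 * f + 1), hGμ, hN0]
      simp
    have h2 : L (μ ^ (2 * f) * k) = 2 ^ (2 * f) * L (μ ^ (2 * f)) := by
      rw [hkL, hLdef, hLdef, hG, ← aeval_sg, map_pow, map_pow, hμ, map_sub, map_sub, aeval_X,
        aeval_X, aeval_C, aeval_C, map_neg, map_one, sub_neg_eq_add, sub_neg_eq_add, gl_add_one,
        sg_add_one]
      have hcm : Commute (1 - C.gl) (C.NN (-1)) :=
        (Commute.one_left _).sub_left ((Commute.refl C.gl).sub_right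
          ((Commute.one_right _).smul_right _))
      rw [hcm.mul_pow, Module.End.mul_apply]
      set z := (C.NN (-1) ^ (2 * f)) w with hz
      have hg : C.gl z = -z := by
        have : C.NN (-1) z = 0 := by
          rw [hz, ← Module.End.mul_apply, ← pow_succ', H.kill]
        simpa [NN, eq_neg_iff_add_eq_zero] using this
      have hp : ∀ n : ℕ, ((1 - C.gl) ^ n) z = (2 : F) ^ n • z := by
        intro n
        induction n with
        | zero => simp
        | succ n ih =>
          rw [pow_succ, Module.End.mul_apply, LinearMap.sub_apply, Module.End.one_apply, hg,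
            sub_neg_eq_add, ← two_smul F z, map_smul, ih, smul_smul, pow_succ']
      rw [hp, map_smul, smul_eq_mul]
    exact mul_right_cancel₀ hne (h1.symm.trans h2)
  set d : F := 2 ^ f with hd
  have hd0 : d ≠ 0 := pow_ne_zero _ H.two
  set u : F[X] := Polynomial.C (d ^ Q)⁻¹ * k ^ (Q' + 1) with hu
  have huu : G (u * u) = G k := by
    have hx : (d ^ Q)⁻¹ * (d ^ Q)⁻¹ * c ^ Q = 1 := by
      rw [hc4, pow_mul', pow_two, mul_pow, ← hd]; field_simp
    rw [show u * u = Polynomial.C ((d ^ Q)⁻¹ * (d ^ Q)⁻¹) * (k * k ^ Q) by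
      rw [hu, map_mul, hQ']; ring, map_mul, map_mul G k, hkQ, ← map_mul, ← map_mul,
      mul_left_comm, ← map_mul Polynomial.C, hx, map_one, mul_one]
  have hus : G (u.comp γ) = G u := by
    rw [hu, mul_comp, C_comp, pow_comp, map_mul, map_mul, map_pow, map_pow, hks]
  have hμu : ¬ μ ∣ u := by
    rw [hμ, dvd_iff_isRoot, IsRoot.def, hu, eval_mul, eval_C, eval_pow, ← hc, hc4]
    exact mul_ne_zero (inv_ne_zero (pow_ne_zero _ hd0)) (pow_ne_zero _ (pow_ne_zero _ H.two))
  obtain ⟨z, ui, huiz⟩ :=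
    (((irreducible_X_sub_C (-1 : F)).coprime_iff_not_dvd.2 hμu).pow_left (m := 2 * f + 1))
  have hui : G u * G ui = 1 := by
    have h := congrArg G huiz
    rw [map_add, map_mul, map_mul, map_pow, ← hμ, hGμ, hN0, mul_zero, zero_add, map_one,
      ← map_mul, mul_comm, map_mul] at h
    exact h
  have huis : G (ui.comp γ) = G ui := by
    have h : G ((u * ui).comp γ) = 1 := by
      rw [hG, aeval_comp, hγ.1]
      have : ∀ x, G (u * ui) x = x := fun x => by rw [map_mul, hui]; rfl
      apply LinearMap.ext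
      intro y
      rw [← sub_eq_zero]
      apply C.nondeg
      intro x
      rw [map_sub, LinearMap.sub_apply, C.adj_aeval', ← hG, this, Module.End.one_apply, sub_self]
    rw [mul_comp, map_mul, hus] at h
    calc G (ui.comp γ) = G ui * (G u * G (ui.comp γ)) := by
          rw [← mul_assoc, show G ui * G u = 1 by rw [← map_mul, mul_comm, map_mul, hui], one_mul]
      _ = G ui := by rw [h, mul_one]
  set σ : F[X] → F[X] := fun r => r.comp (-(X ^ 2)) with hσ
  have hbeta : ∀ a b, C.B (G a v) (G b w) = L (a.comp γ * b) := fun a b => by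
    rw [hLdef, hG, C.adj_aeval, map_mul, Module.End.mul_apply, hgi]
  have hgram : ∀ h k : F[X] × F[X], C.B (C.param v w h) (C.param v w k) =
      L (h.1.comp γ * k.2) - L (k.1.comp γ * h.2) := by
    intro h k
    have hv0 : C.B (G h.1 v) (G k.1 v) = 0 := by
      rw [hG, C.adj_aeval]
      exact P.isov _ ((C.stable_TTspan v).aeval_gi_mem _
        ((C.stable_TTspan v).aeval_mem _ (C.self_mem_TTspan v)))
    have hw0 : C.B (G h.2 w) (G k.2 w) = 0 := by
      rw [hG, C.adj_aeval]
      exact P.isow _ ((C.stable_TTspan w).aeval_gi_mem _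
        ((C.stable_TTspan w).aeval_mem _ (C.self_mem_TTspan w)))
    rw [param_apply, param_apply, map_add, map_add, LinearMap.add_apply, LinearMap.add_apply,
      ← hG, hv0, hw0, C.symm (G h.2 w), hbeta, hbeta]
    ring
  have hswap : ∀ a b : F[X], L (a.comp γ * b) = L (b.comp γ * a) := fun a b => by
    rw [← hsym (b.comp γ * a)]
    refine hLG _ _ ?_
    rw [mul_comp, mul_comm (a.comp γ), map_mul, map_mul, hγγ]
  have hcore : ∀ a b : F[X], L ((σ (a * ui)).comp γ * σ (b * ui)) = L (a.comp γ * b) := by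
    intro a b
    have e1 : G ((σ (a * ui)).comp γ * σ (b * ui)) = G (σ ((a * ui).comp γ * (b * ui))) := by
      simp only [hσ, mul_comp, map_mul, hσγ]
    rw [hLG _ _ e1, hσ, ← hkL]
    refine hLG _ _ ?_
    have e2 : G ui * G ui * G k = 1 := by
      rw [← huu, ← map_mul, ← map_mul, show ui * ui * (u * u) = (u * ui) * (u * ui) by ring,
        map_mul, map_mul G u, hui, mul_one]
    calc G ((a * ui).comp γ * (b * ui) * k)
        = G (a.comp γ) * G (ui.comp γ) * (G b * G ui) * G k := by
          simp only [mul_comp, map_mul]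
      _ = G (a.comp γ * b) * (G ui * G ui * G k) := by
          rw [huis, ← map_mul, ← map_mul, ← map_mul, ← map_mul, ← map_mul, ← map_mul, ← map_mul]
          congr 1
          ring
      _ = G (a.comp γ * b) := by rw [e2, mul_one]
  obtain ⟨a₀, b₀, hab⟩ := CharP.sq_add_sq F p (-1)
  set α : F := (a₀ : F) with hα
  set β : F := (b₀ : F) with hβ
  have hαβ : α ^ 2 + β ^ 2 = -1 := by rw [hα, hβ, hab]; simp
  let σl : F[X] →ₗ[F] F[X] :=
    (aeval (-(X ^ 2) : F[X])).toLinearMap.comp (LinearMap.mulRight F ui)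
  have hσl : ∀ r, σl r = σ (r * ui) := fun r => by
    simp [σl, hσ, comp_eq_aeval]
  let IP : F[X] × F[X] →ₗ[F] F[X] × F[X] :=
    (-LinearMap.snd F F[X] F[X]).prod (LinearMap.fst F F[X] F[X])
  let JP : F[X] × F[X] →ₗ[F] F[X] × F[X] :=
    (α • LinearMap.fst F F[X] F[X] + β • LinearMap.snd F F[X] F[X]).prod
      (β • LinearMap.fst F F[X] F[X] - α • LinearMap.snd F F[X] F[X])
  let XP : F[X] × F[X] →ₗ[F] F[X] × F[X] :=
    -((LinearMap.mulLeft F (X : F[X])).prodMap (LinearMap.mulLeft F (X : F[X])))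
  let CP : F[X] × F[X] →ₗ[F] F[X] × F[X] := σl.prodMap σl
  have hsurj := P.param_surjective H
  have hL : ∀ p q, L (p + q) = L p + L q := fun p q => by
    simp [hLdef]
  have hLs : ∀ (t : F) p, L (t • p) = t * L p := fun t p => by simp [hLdef]
  have hLn : ∀ p, L (-p) = -L p := fun p => by simp [hLdef]
  have hLd : ∀ p q, L (p - q) = L p - L q := fun p q => by simp [hLdef]
  obtain ⟨φa, hφa, hφa'⟩ := C.exists_iso_param (C.param v w) ((C.param v w).comp (CP.comp IP))
    hsurj (by
      intro h k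
      simp only [LinearMap.comp_apply, hgram, CP, IP, LinearMap.prodMap_apply,
        LinearMap.prod_apply, Function.prod_apply, LinearMap.neg_apply, LinearMap.fst_apply,
        LinearMap.snd_apply, hσl, hcore]
      rw [neg_comp, neg_comp, neg_mul, neg_mul, hLn, hLn, hswap h.2, hswap k.2]
      ring)
  obtain ⟨φb, hφb, hφb'⟩ := C.exists_iso_param (C.param v w) ((C.param v w).comp (JP.comp XP))
    hsurj (by
      intro h k
      have hX : ∀ a b : F[X], L ((X * a).comp γ * (X * b)) = L (a.comp γ * b) := fun a b => by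
        refine hLG _ _ ?_
        rw [mul_comp, X_comp, mul_mul_mul_comm, map_mul, map_mul _ γ, hG, hγ.1, aeval_X,
          C.gi_gl, one_mul]
      simp only [LinearMap.comp_apply, hgram, JP, XP, LinearMap.prodMap_apply,
        LinearMap.prod_apply, Function.prod_apply, LinearMap.neg_apply, LinearMap.fst_apply,
        LinearMap.snd_apply, LinearMap.add_apply, LinearMap.sub_apply, LinearMap.smul_apply,
        LinearMap.mulLeft_apply, Prod.fst_neg, Prod.snd_neg, smul_neg, add_comp, neg_comp,
        smul_comp, add_mul, neg_mul, smul_mul_assoc, mul_sub, mul_neg, mul_smul_comm, smul_smul,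
        hL, hLn, hLd, hLs, hX, neg_neg, sub_neg_eq_add]
      simp only [mul_add, mul_neg, mul_smul_comm, hL, hLn, hLs, hX]
      rw [hswap h.2 k.1, hswap k.2 h.1, hswap h.2 k.2, hswap h.1 k.1]
      linear_combination (L (h.1.comp γ * k.2) - L (k.1.comp γ * h.2)) * (-1) * hαβ)
  refine C.commOn_top_of_eq hφa hφb fun x => ?_
  obtain ⟨h, rfl⟩ := hsurj x
  rw [hφb', hφa']
  simp only [LinearMap.comp_apply]
  rw [hφa', hφb']
  simp only [LinearMap.comp_apply, param_apply, CP, IP, JP, XP, LinearMap.prodMap_apply,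
    LinearMap.prod_apply, Function.prod_apply, LinearMap.neg_apply, LinearMap.fst_apply,
    LinearMap.snd_apply, LinearMap.add_apply, LinearMap.sub_apply, LinearMap.smul_apply,
    LinearMap.mulLeft_apply, Prod.fst_neg, Prod.snd_neg]
  show _ = C.gl _
  simp only [hσl, hσ, mul_comp, X_comp, neg_comp, add_comp, sub_comp, smul_comp, map_add, map_sub,
    map_neg, map_smul, map_mul, aeval_X, map_pow, LinearMap.add_apply, LinearMap.sub_apply,
    LinearMap.neg_apply, LinearMap.smul_apply, Module.End.mul_apply, pow_two, smul_neg, smul_add,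
    smul_sub, neg_neg]
  abel

end Ctx

end Cfsg.Agent.Lib.SpCommutator
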